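import Cfsg.Agent.Lib.PSL2.ClassSizes.Zass
import Cfsg.Agent.Lib.PSL2.CentralizerSizes
import Cfsg.Agent.Lib.PSL2.PGLHom
import Cfsg.Agent.Lib.PSL2.AbelianInvol.Main
import Cfsg.Agent.Lib.PSL2.Sylow
import Cfsg.Agent.S2202

/-!
# Groups with the class sizes of `PSL(2, q)`: `G / Z(G) ≅ PSL(2, q)`
-/

set_option autoImplicit false
set_option linter.style.haveILetI false

namespace Cfsg.Agent.PSLSizes

open Subgroup Cfsg.Agent.ClassSize.CoprimeTop
open scoped MatrixGroups

universe w₀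

variable {G : Type w₀} [Group G] [Finite G] {F : Type*} [Field F] [Fintype F]

/-- The centraliser in the central quotient, with the size of the fusing kernel. -/
theorem exists_range (g : G) :
    ∃ r : ℕ, Nat.card (centralizer ({π G g} : Set (G ⧸ center G))) = r * co g ∧ r ∣ cl g ∧
      ∀ l : ℕ, l.Prime → l ∣ r → l ∣ co g := by
  set D := (centralizer ({π G g} : Set (G ⧸ center G))).comap (π G) with hD
  have hle : cent g ≤ D := fun c hc => mem_comap.2 (map_cent_le g (mem_map_of_mem _ hc))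
  have hDmap : D.map (π G) = centralizer ({π G g} : Set (G ⧸ center G)) :=
    map_comap_eq_self_of_surjective (QuotientGroup.mk'_surjective _) _
  refine ⟨(cent g).relIndex D, ?_, ?_, fun l hl hlr => ?_⟩
  · rw [← hDmap, ← relIndex_ker, QuotientGroup.ker_mk', co, mul_comm,
      relIndex_mul_relIndex _ _ _ (center_le_cent g) hle]
  · rw [cl, ← relIndex_mul_index hle]
    exact dvd_mul_right _ _
  haveI := Fact.mk hl
  have hmem : ∀ d : D, (d : G) * g * (d : G)⁻¹ * g⁻¹ ∈ center G := fun d => by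
    have h1 : π G d * π G g = π G g * π G d := mem_centralizer_singleton_iff.1 (mem_comap.1 d.2)
    rw [← pi_eq_one_iff, map_mul, map_mul, map_mul, map_inv, map_inv, h1]
    group
  let f : D →* center G := MonoidHom.mk' (fun d => ⟨(d : G) * g * (d : G)⁻¹ * g⁻¹, hmem d⟩)
    fun c d => Subtype.ext (by
      have h1 := mem_center_iff.1 (hmem d)
      show (c : G) * d * g * ((c : G) * d)⁻¹ * g⁻¹ = _ * _
      calc (c : G) * d * g * ((c : G) * d)⁻¹ * g⁻¹
          = (c : G) * ((d : G) * g * (d : G)⁻¹ * g⁻¹) * g * (c : G)⁻¹ * g⁻¹ := by group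
        _ = ((d : G) * g * (d : G)⁻¹ * g⁻¹) * (c : G) * g * (c : G)⁻¹ * g⁻¹ := by rw [h1 c]
        _ = ((d : G) * g * (d : G)⁻¹ * g⁻¹) * ((c : G) * g * (c : G)⁻¹ * g⁻¹) := by group
        _ = _ := (mem_center_iff.1 (hmem d) _).symm)
  have hker : f.ker = (cent g).subgroupOf D := by
    ext d
    rw [MonoidHom.mem_ker, mem_subgroupOf, mem_cent, Subtype.ext_iff]
    show (d : G) * g * (d : G)⁻¹ * g⁻¹ = 1 ↔ _
    rw [mul_inv_eq_one, mul_inv_eq_iff_eq_mul, eq_comm]
  have hrange : l ∣ Nat.card f.range := by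
    rw [← index_ker, hker]
    exact hlr
  obtain ⟨⟨_, d, rfl⟩, hd⟩ := exists_prime_orderOf_dvd_card' l hrange
  rw [← orderOf_coe, ← orderOf_coe] at hd
  change orderOf ((d : G) * g * (d : G)⁻¹ * g⁻¹) = l at hd
  set z := (d : G) * g * (d : G)⁻¹ * g⁻¹ with hz
  set o := orderOf (π G g) with ho
  have hgo : g ^ o ∈ center G := by rw [← pi_eq_one_iff, map_pow, ho, pow_orderOf_eq_one]
  have hc : Commute z g := (mem_center_iff.1 (hmem d) g).symm
  have e : (d : G) * g * (d : G)⁻¹ = z * g := by rw [hz]; group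
  have e1 := congrArg (· ^ o) e
  simp only [conj_pow, hc.mul_pow] at e1
  rw [mem_center_iff.1 hgo (d : G), mul_inv_cancel_right, eq_comm, mul_eq_right] at e1
  rw [← hd]
  refine (orderOf_dvd_of_pow_eq_one e1).trans ?_
  rw [ho, ← card_map_cent]
  exact orderOf_dvd_natCard _ (mem_map_cent_self g)

theorem two_ne (hodd : ¬ 2 ∣ Fintype.card F) : (2 : F) ≠ 0 :=
  PSL2.odd_card_iff.1 (Nat.odd_iff.2 (by omega))

/-- The arithmetic for odd `q`. -/
structure Arith (q s d : ℕ) : Prop where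
  hs : Odd s
  hs3 : 3 ≤ s
  hd : Even d
  hd0 : 0 < d
  hsd : q = s + d
  hor : 2 * d + 1 = q ∨ 2 * d = q + 1
  hsq : 4 * d * s + 1 = q ^ 2
  hcop : s.Coprime (2 * d)

/-- The class sizes for odd `q`. -/
structure OddSizes (G : Type w₀) [Group G] (q u s d : ℕ) : Prop where
  hu : u = 2 * d * s
  cases : ∀ g : G, cl g = 1 ∨ cl g = u ∨ cl g = s * q ∨ cl g = 2 * d * q ∨ cl g = 2 * s * q
  mem_u : ∃ g : G, cl g = u
  mem_v : ∃ g : G, cl g = 2 * d * q
  mem_w : ∃ g : G, cl g = s * q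

theorem exists_arith {q : ℕ} (hodd : Odd q) (h7 : 7 ≤ q) : ∃ s d, Arith q s d ∧
    (q % 4 = 1 → 2 * d + 1 = q) ∧ (q % 4 = 3 → 2 * d = q + 1) := by
  obtain ⟨m, hm⟩ := hodd
  rcases Nat.even_or_odd m with ⟨j, hj⟩ | ⟨j, hj⟩
  · refine ⟨m + 1, m, ⟨⟨j, by omega⟩, by omega, ⟨j, hj⟩, by omega, by omega, Or.inl (by omega),
      by rw [hm]; ring, ?_⟩, fun _ => by omega, fun h => by omega⟩
    rw [Nat.coprime_mul_iff_right]
    exact ⟨Nat.coprime_two_right.2 ⟨j, by omega⟩, by simp [Nat.coprime_add_self_left]⟩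
  · refine ⟨m, m + 1, ⟨⟨j, hj⟩, by omega, ⟨j + 1, by omega⟩, by omega, by omega, Or.inr (by omega),
      by rw [hm]; ring, ?_⟩, fun h => by omega, fun _ => by omega⟩
    rw [Nat.coprime_mul_iff_right]
    exact ⟨Nat.coprime_two_right.2 ⟨j, hj⟩, by simp [Nat.coprime_self_add_right]⟩

theorem oddSizes {q : ℕ} (hq : Fintype.card F = q) (h7 : 7 ≤ Fintype.card F) {s d : ℕ} (ha : Arith q s d)
    (h1 : q % 4 = 1 → 2 * d + 1 = q) (h3 : q % 4 = 3 → 2 * d = q + 1)
    (h : Set.range (fun g : G => (centralizer ({g} : Set G)).index) =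
      Set.range (fun g : PSL(2, F) => (centralizer ({g} : Set PSL(2, F))).index)) :
    OddSizes G q (2 * d * s) s d := by
  have hodd : Odd q := by
    obtain ⟨i, hi⟩ := ha.hd
    rcases ha.hor with e | e
    · exact ⟨d, e.symm⟩
    · exact ⟨d - 1, by have := ha.hd0; omega⟩
  have h2 := PSL2.odd_card_iff.1 (hq ▸ hodd)
  have hq4 : q % 4 = 1 ∨ q % 4 = 3 := by obtain ⟨i, hi⟩ := hodd; omega
  have hc : ∀ x : PSL(2, F), orderOf x = 2 →
      Nat.card (centralizer ({x} : Set PSL(2, F))) = 2 * d := fun x hx => by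
    rcases hq4 with hm | hm
    · rw [(PSL2.card_centralizer_involution h2 hx).1 (hq ▸ hm), hq]
      have := h1 hm
      omega
    · rw [(PSL2.card_centralizer_involution h2 hx).2 (hq ▸ hm), hq]
      exact (h3 hm).symm
  have hN : 2 * (s * q * (2 * d)) = Fintype.card F * (Fintype.card F ^ 2 - 1) := by
    rw [hq, ← ha.hsq, Nat.add_sub_cancel]; ring
  rw [PSL2.class_sizes_odd h2 h7 hc (by have := ha.hd0; omega) hN, hq] at h
  have hu : (q ^ 2 - 1) / 2 = 2 * d * s := by
    rw [← ha.hsq, Nat.add_sub_cancel, show 4 * d * s = 2 * (2 * d * s) by ring,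
      Nat.mul_div_cancel_left _ two_pos]
  have hpm : (q * (q - 1) = 2 * d * q ∧ q * (q + 1) = 2 * s * q) ∨
      (q * (q - 1) = 2 * s * q ∧ q * (q + 1) = 2 * d * q) := by
    have := ha.hsd
    rcases ha.hor with e | e
    · exact Or.inl ⟨by rw [show q - 1 = 2 * d by omega, mul_comm],
        by rw [show q + 1 = 2 * s by omega, mul_comm]⟩
    · exact Or.inr ⟨by rw [show q - 1 = 2 * s by omega, mul_comm],
        by rw [show q + 1 = 2 * d by omega, mul_comm]⟩
  rw [hu] at h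
  have hm : ∀ n, (∃ g : G, cl g = n) ↔ n = 1 ∨ n = 2 * d * s ∨ n = s * q ∨ n = q * (q - 1) ∨
      n = q * (q + 1) := fun n => by
    have h' := Set.ext_iff.1 h n
    rw [Set.mem_insert_iff, Set.mem_insert_iff, Set.mem_insert_iff, Set.mem_insert_iff,
      Set.mem_singleton_iff] at h'
    exact h'
  refine ⟨rfl, fun g => ?_, (hm _).2 (Or.inr (Or.inl rfl)), ?_, (hm _).2 (Or.inr (Or.inr (Or.inl rfl)))⟩
  · rcases (hm _).1 ⟨g, rfl⟩ with e | e | e | e | e
    · exact Or.inl e
    · exact Or.inr (Or.inl e)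
    · exact Or.inr (Or.inr (Or.inl e))
    all_goals rcases hpm with ⟨e1, e2⟩ | ⟨e1, e2⟩
    · exact Or.inr (Or.inr (Or.inr (Or.inl (e.trans e1))))
    · exact Or.inr (Or.inr (Or.inr (Or.inr (e.trans e1))))
    · exact Or.inr (Or.inr (Or.inr (Or.inr (e.trans e2))))
    · exact Or.inr (Or.inr (Or.inr (Or.inl (e.trans e2))))
  · rcases hpm with ⟨e1, e2⟩ | ⟨e1, e2⟩
    · exact (hm _).2 (Or.inr (Or.inr (Or.inr (Or.inl e1.symm))))
    · exact (hm _).2 (Or.inr (Or.inr (Or.inr (Or.inr e2.symm))))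

theorem Arith.coprime {p k s d : ℕ} (hp : p.Prime) (ha : Arith (p ^ k) s d) :
    ¬ p ∣ 2 * d ∧ ¬ p ∣ s ∧ 0 < k := by
  have hk : 0 < k := Nat.pos_of_ne_zero fun hk => by
    have := ha.hsd; have := ha.hd0; have := ha.hs3
    rw [hk, pow_zero] at *
    omega
  have h1 : p ∣ (p ^ k) ^ 2 := dvd_pow (dvd_pow_self p hk.ne') two_ne_zero
  have key : ∀ m, m ∣ 4 * d * s → ¬ p ∣ m := fun m hm hd =>
    hp.not_dvd_one ((Nat.dvd_add_right (hd.trans hm)).1 (by rwa [ha.hsq]))
  exact ⟨key _ ⟨2 * s, by ring⟩, key _ ⟨4 * d, by ring⟩, hk⟩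

theorem OddSizes.hyp {p k u s d : ℕ} (hp : p.Prime) (ha : Arith (p ^ k) s d)
    (hS : OddSizes G (p ^ k) u s d) : Hyp G p k 2 u (2 * d * p ^ k) (s * p ^ k) := by
  obtain ⟨hpd, hps, hk⟩ := ha.coprime hp
  have hs3 := ha.hs3
  have hd0 := ha.hd0
  have hq0 : 0 < p ^ k := Nat.pow_pos hp.pos
  have hq7 : 4 ≤ p ^ k := by have := ha.hsd; omega
  obtain ⟨i, hi⟩ := ha.hd
  have hu := hS.hu
  have hqu : ¬ p ^ k ∣ u := fun e => by
    have e2 := (dvd_pow_self p hk.ne').trans e
    rw [hu] at e2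
    exact (hp.dvd_mul.1 e2).elim hpd hps
  have hsd2 : ¬ 2 * d ∣ 2 * s := fun e => by
    have h1 : d ∣ 1 := Nat.Coprime.eq_one_of_dvd
      (ha.hcop.symm.coprime_dvd_left ⟨2, by ring⟩) (Nat.dvd_of_mul_dvd_mul_left two_pos e) ▸ dvd_rfl
    have := Nat.le_of_dvd one_pos h1
    omega
  have hds : ¬ s ∣ 2 * d := fun e => by
    have := Nat.Coprime.eq_one_of_dvd ha.hcop e
    omega
  have h2ds : ¬ 2 * d ∣ s := fun e => hsd2 (e.trans ⟨2, by ring⟩)
  have hucop : u.Coprime (p ^ k) := by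
    refine Nat.Coprime.pow_right k ((hp.coprime_iff_not_dvd.2 ?_).symm)
    rw [hu]
    exact fun e => (hp.dvd_mul.1 e).elim hpd hps
  refine
    { hp := hp, four_le := hq7, hδ := Or.inr rfl, hu := by rw [hu, ← ha.hsq]; ring
      isoU := ⟨fun e => by rw [hu] at e; nlinarith, hS.mem_u, fun g hg hd => ?_⟩
      isoV := ⟨fun e => by nlinarith, hS.mem_v, fun g hg hd => ?_⟩
      hw := hS.mem_w
      w_ne := fun e => by nlinarith
      w_ne_u := fun e => hqu (e ▸ dvd_mul_left _ _)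
      v_ne_u := fun e => hqu (e ▸ dvd_mul_left _ _)
      hgcd := fun r hr hrp h1 h2 => ?_
      hv := ?_
      cases := fun g => ?_ }
  · rcases hS.cases g with e | e | e | e | e
    · exact absurd (cl_eq_one.1 e) hg
    · exact e
    all_goals
      exfalso
      rw [e] at hd
      rcases hd with hd | hd
      · have h1 := hucop.dvd_of_dvd_mul_right hd
        rw [hu] at h1
        first
          | exact h2ds ((dvd_mul_right _ _).trans h1)
          | exact hds ((dvd_mul_left _ _).trans h1)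
          | exact hsd2 ((dvd_mul_right _ _).trans h1)
      · exact hqu ((dvd_mul_left _ _).trans hd)
  · rcases hS.cases g with e | e | e | e | e
    · exact absurd (cl_eq_one.1 e) hg
    · exfalso
      rw [e] at hd
      rcases hd with hd | hd
      · exact hqu ((dvd_mul_left _ _).trans hd)
      · rw [hu] at hd
        exact hds ((Nat.Coprime.dvd_of_dvd_mul_right
          (((hp.coprime_iff_not_dvd.2 hps).symm.pow_right k)) ((dvd_mul_left _ _).trans hd)))
    · exfalso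
      rw [e] at hd
      rcases hd with hd | hd
      · exact h2ds (Nat.dvd_of_mul_dvd_mul_right hq0 hd)
      · exact hds (Nat.dvd_of_mul_dvd_mul_right hq0 hd)
    · exact e
    · exfalso
      rw [e] at hd
      rcases hd with hd | hd
      · exact hsd2 (Nat.dvd_of_mul_dvd_mul_right hq0 hd)
      · exact hds ((dvd_mul_left s 2).trans (Nat.dvd_of_mul_dvd_mul_right hq0 hd))
  · rcases hr.dvd_mul.1 h1 with h3 | h3
    · rcases hr.dvd_mul.1 h2 with h4 | h4
      · exact hr.not_dvd_one (Nat.eq_one_of_dvd_coprimes ha.hcop h4 h3 ▸ dvd_rfl)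
      · exact hrp ((Nat.prime_dvd_prime_iff_eq hr hp).1 (hr.dvd_of_dvd_pow h4))
    · exact hrp ((Nat.prime_dvd_prime_iff_eq hr hp).1 (hr.dvd_of_dvd_pow h3))
  · rw [Nat.factorization_mul (by omega) hq0.ne', Finsupp.add_apply,
      Nat.factorization_eq_zero_of_not_dvd hpd, Nat.Prime.factorization_pow hp, Finsupp.single_eq_same,
      zero_add]
  · rcases hS.cases g with e | e | e | e | e
    · exact Or.inl e
    · exact Or.inr (Or.inl e)
    all_goals exact Or.inr (Or.inr (e ▸ dvd_mul_left _ _))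

theorem OddSizes.qodd {p k u s d : ℕ} (hp : p.Prime) (ha : Arith (p ^ k) s d)
    (hS : OddSizes G (p ^ k) u s d) : QOdd (G ⧸ center G) p k u s d := by
  obtain ⟨hpd, hps, hk⟩ := ha.coprime hp
  have h := hS.hyp hp ha
  refine
    { h.qhyp with
      hp2 := fun e => ?_, hud := hS.hu, hs := ha.hs, hs3 := ha.hs3, hd := ha.hd, hor := ha.hor
      hsd := ha.hsd, cent_cases := fun x hx hxq => ?_ }
  · subst e
    exact hpd (dvd_mul_right _ _)
  obtain ⟨g, rfl⟩ := QuotientGroup.mk'_surjective (center G) x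
  have hgz : g ∉ center G := fun e => hx (pi_eq_one_iff.2 e)
  obtain ⟨r, hr, hrc, hrl⟩ := exists_range g
  have hco : co g * cl g = p ^ k * u := by rw [co_mul_cl, h.index_center]
  rw [hS.hu] at hco
  have hq0 : 0 < p ^ k := Nat.pow_pos hp.pos
  have hs0 : 0 < s := by have := ha.hs3; omega
  have hd0 := ha.hd0
  have hsq : s.Coprime (p ^ k) := ((hp.coprime_iff_not_dvd.2 hps).symm.pow_right k)
  have hdq : (2 * d).Coprime (p ^ k) := ((hp.coprime_iff_not_dvd.2 hpd).symm.pow_right k)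
  rw [hr]
  rcases hS.cases g with e | e | e | e | e
  · exact absurd (cl_eq_one.1 e) hgz
  · exfalso
    rw [e, hS.hu] at hco
    have h1 := Nat.eq_of_mul_eq_mul_right (by positivity) hco
    refine hxq ?_
    rw [← h1, ← card_map_cent]
    exact orderOf_dvd_iff_pow_eq_one.1 (orderOf_dvd_natCard _ (mem_map_cent_self g))
  · right
    rw [e] at hco hrc
    have h1 : co g = 2 * d :=
      Nat.eq_of_mul_eq_mul_right (Nat.mul_pos hs0 hq0) (hco.trans (by ring))
    have h2 : r = 1 := Nat.eq_one_iff_not_exists_prime_dvd.2 fun l hl hlr => by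
      have h3 := Nat.eq_one_of_dvd_coprimes (ha.hcop.symm.mul_right hdq) (h1 ▸ hrl l hl hlr)
        (hlr.trans hrc)
      exact hl.ne_one h3
    rw [h2, h1, one_mul]
  · left
    rw [e] at hco hrc
    have h1 : co g = s :=
      Nat.eq_of_mul_eq_mul_right (Nat.mul_pos (by omega) hq0) (hco.trans (by ring))
    have h2 : r = 1 := Nat.eq_one_iff_not_exists_prime_dvd.2 fun l hl hlr => by
      exact hl.ne_one (Nat.eq_one_of_dvd_coprimes (ha.hcop.mul_right hsq) (h1 ▸ hrl l hl hlr)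
        (hlr.trans hrc))
    rw [h2, h1, one_mul]
  · right
    rw [e] at hco hrc
    have h1 : co g = d :=
      Nat.eq_of_mul_eq_mul_right (Nat.mul_pos (Nat.mul_pos two_pos hs0) hq0) (hco.trans (by ring))
    rw [h1]
    refine mul_dvd_mul_right ?_ d
    refine (Nat.Coprime.dvd_of_dvd_mul_right ?_ (show r ∣ 2 * (s * p ^ k) by rwa [← mul_assoc]))
    refine Nat.coprime_of_dvd fun l hl h1' h2' => ?_
    have h3 := Nat.eq_one_of_dvd_coprimes ((ha.hcop.symm.mul_right hdq))
      ((h1 ▸ hrl l hl h1').trans (dvd_mul_left _ _)) h2'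
    exact hl.ne_one h3

/-- **Odd `q`**: `G / Z(G) ≅ PSL(2, q)`. -/
theorem quotient_odd (hodd : ¬ 2 ∣ Fintype.card F) (h7 : 7 ≤ Fintype.card F)
    (h : Set.range (fun g : G => (centralizer ({g} : Set G)).index) =
      Set.range (fun g : PSL(2, F) => (centralizer ({g} : Set PSL(2, F))).index)) :
    Nonempty (G ⧸ center G ≃* PSL(2, F)) := by
  obtain ⟨p, hp⟩ := CharP.exists F
  obtain ⟨n, hp', hn⟩ := FiniteField.card F p
  haveI := Fact.mk hp'
  obtain ⟨s, d, ha, h1, h3⟩ := exists_arith (q := p ^ (n : ℕ)) (Nat.odd_iff.2 (by omega)) (hn ▸ h7)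
  obtain ⟨K, i1, i2, hK, ⟨e⟩⟩ := ((oddSizes hn h7 ha h1 h3 h).qodd hp' ha).exists_equiv
  exact ⟨e.trans (PSL2.pslCongr (FiniteField.ringEquivOfCardEq (hK.trans hn.symm)))⟩

theorem center_SL_eq_bot (h2 : (2 : F) = 0) : center SL(2, F) = ⊥ := by
  rw [eq_bot_iff]
  intro z hz
  rcases PSL2.mem_center_iff_pm.1 hz with rfl | rfl
  · exact one_mem _
  · refine mem_bot.2 (Subtype.ext ?_)
    ext i j
    have : (1 : F) + 1 = 0 := by rw [one_add_one_eq_two, h2]
    rcases Decidable.em (i = j) with rfl | hij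
    · simp [neg_eq_of_add_eq_zero_left this]
    · simp [hij]

/-- The hypothesis for even `q`. -/
theorem hyp_even (h2 : 2 ∣ Fintype.card F) (h4 : 4 ≤ Fintype.card F)
    (h : Set.range (fun g : G => (centralizer ({g} : Set G)).index) =
      Set.range (fun g : PSL(2, F) => (centralizer ({g} : Set PSL(2, F))).index))
    {p : ℕ} {n : ℕ+} (hn : Fintype.card F = p ^ (n : ℕ)) (hp' : p.Prime) :
    ∃ u v w, Hyp G p n 1 u v w := by
  have h20 := PSL2.even_card_iff.1 (even_iff_two_dvd.2 h2)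
  have hp2 : p = 2 := ((Nat.prime_dvd_prime_iff_eq Nat.prime_two hp').1
    (Nat.prime_two.dvd_of_dvd_pow (hn ▸ h2))).symm
  subst hp2
  rw [PSL2.class_sizes_even h20 h4, hn] at h
  rw [hn] at h4
  obtain ⟨Q, hQ⟩ : ∃ Q, 2 ^ (n : ℕ) = Q + 1 := ⟨2 ^ (n : ℕ) - 1, by omega⟩
  rw [hQ] at h
  have hu : (Q + 1) ^ 2 - 1 = Q * (Q + 2) := by
    rw [show (Q + 1) ^ 2 = Q * (Q + 2) + 1 by ring, Nat.add_sub_cancel]
  rw [hu, Nat.add_sub_cancel] at h
  have hmem : ∀ m, (∃ g : G, cl g = m) ↔ m = 1 ∨ m = (Q + 1) * Q ∨ m = Q * (Q + 2) ∨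
      m = (Q + 1) * (Q + 1 + 1) := fun m => by
    have h' := Set.ext_iff.1 h m
    rw [Set.mem_insert_iff, Set.mem_insert_iff, Set.mem_insert_iff, Set.mem_singleton_iff] at h'
    exact h'
  have hQo : ¬ 2 ∣ Q := fun e => by
    have h1 : 2 ∣ 2 ^ (n : ℕ) := dvd_pow_self 2 n.ne_zero
    omega
  have hc1 : (Q + 1).Coprime (Q * (Q + 2)) := Nat.Coprime.mul_right (by simp)
    (by rw [show Q + 2 = Q + 1 + 1 by omega]; simp)
  have hc2 : Q.Coprime (Q + 2) := by
    rw [Nat.coprime_self_add_right]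
    exact Nat.coprime_two_right.2 (Nat.odd_iff.2 (by omega))
  have hQ3 : 3 ≤ Q := by omega
  have hqu : ¬ Q + 1 ∣ Q * (Q + 2) := fun e => by
    have := Nat.Coprime.eq_one_of_dvd hc1 e
    omega
  refine ⟨Q * (Q + 2), (Q + 1) * Q, (Q + 1) * (Q + 1 + 1), ?_⟩
  refine
    { hp := Nat.prime_two, four_le := by omega, hδ := Or.inl rfl, hu := by rw [hQ]; ring
      isoU := ⟨fun e => by nlinarith, (hmem _).2 (by tauto), fun g hg hd => ?_⟩
      isoV := ⟨fun e => by nlinarith, (hmem _).2 (by tauto), fun g hg hd => ?_⟩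
      hw := (hmem _).2 (by tauto)
      w_ne := fun e => by nlinarith
      w_ne_u := fun e => hqu (e ▸ dvd_mul_right _ _)
      v_ne_u := fun e => hqu (e ▸ dvd_mul_right _ _)
      hgcd := fun r hr hrp h1 h2' => ?_
      hv := ?_
      cases := fun g => ?_ }
  · rcases (hmem (cl g)).1 ⟨g, rfl⟩ with e | e | e | e
    · exact absurd (cl_eq_one.1 e) hg
    swap
    · exact e
    all_goals
      exfalso
      rw [e] at hd
      rcases hd with hd | hd
      · have h1 := Nat.le_of_dvd (by omega) (hc1.symm.dvd_of_dvd_mul_left hd)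
        nlinarith
      · exact hqu ((dvd_mul_right _ _).trans hd)
  · rcases (hmem (cl g)).1 ⟨g, rfl⟩ with e | e | e | e
    · exact absurd (cl_eq_one.1 e) hg
    · exact e
    · exfalso
      rw [e] at hd
      rcases hd with hd | hd
      · exact hqu ((dvd_mul_right _ _).trans hd)
      · have h1 := hc1.symm.dvd_of_dvd_mul_left hd
        have h2' := Nat.le_of_dvd (by omega) h1
        nlinarith
    · exfalso
      rw [e] at hd
      rcases hd with hd | hd
      · have h1 : Q ∣ Q + 1 + 1 := Nat.dvd_of_mul_dvd_mul_left (by omega) hd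
        have h2' := Nat.Coprime.eq_one_of_dvd hc2 h1
        omega
      · have h2' := Nat.le_of_dvd (by omega) (Nat.dvd_of_mul_dvd_mul_left (by omega) hd)
        omega
  · have hr2 : ¬ r ∣ Q + 1 := fun e =>
      hrp ((Nat.prime_dvd_prime_iff_eq hr Nat.prime_two).1 (hr.dvd_of_dvd_pow (hQ.symm ▸ e)))
    exact hr.not_dvd_one (Nat.eq_one_of_dvd_coprimes hc2 ((hr.dvd_mul.1 h1).resolve_left hr2)
      ((hr.dvd_mul.1 h2').resolve_left hr2) ▸ dvd_rfl)
  · rw [Nat.factorization_mul (by omega) (by omega), Finsupp.add_apply, ← hQ,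
      Nat.Prime.factorization_pow Nat.prime_two, Finsupp.single_eq_same,
      Nat.factorization_eq_zero_of_not_dvd hQo, add_zero]
  · rcases (hmem (cl g)).1 ⟨g, rfl⟩ with e | e | e | e
    · exact Or.inl e
    · exact Or.inr (Or.inr (by rw [e, hQ]; exact dvd_mul_right _ _))
    · exact Or.inr (Or.inl e)
    · exact Or.inr (Or.inr (by rw [e, hQ]; exact dvd_mul_right _ _))

/-- **Even `q`**: `G / Z(G) ≅ PSL(2, q)`. -/
theorem quotient_even (h2 : 2 ∣ Fintype.card F) (h4 : 4 ≤ Fintype.card F)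
    (h : Set.range (fun g : G => (centralizer ({g} : Set G)).index) =
      Set.range (fun g : PSL(2, F) => (centralizer ({g} : Set PSL(2, F))).index)) :
    Nonempty (G ⧸ center G ≃* PSL(2, F)) := by
  classical
  have h20 := PSL2.even_card_iff.1 (even_iff_two_dvd.2 h2)
  obtain ⟨p, hp⟩ := CharP.exists F
  obtain ⟨n, hp', hn⟩ := FiniteField.card F p
  have hp2 : p = 2 := ((Nat.prime_dvd_prime_iff_eq Nat.prime_two hp').1
    (Nat.prime_two.dvd_of_dvd_pow (hn ▸ h2))).symm
  subst hp2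
  obtain ⟨u, v, w, hH⟩ := hyp_even h2 h4 h hn Nat.prime_two
  rw [hn] at h4
  obtain ⟨Q, hQ⟩ : ∃ Q, 2 ^ (n : ℕ) = Q + 1 := ⟨2 ^ (n : ℕ) - 1, by omega⟩
  have hu : u = Q * (Q + 2) := by
    have := hH.hu
    rw [hQ] at this
    linarith
  subst hu
  have hQ3 : 3 ≤ Q := by omega
  have hq := hH.qhyp
  set H := G ⧸ center G
  haveI : Fact (Nat.Prime 2) := ⟨Nat.prime_two⟩
  have hpow : ∀ t : H, orderOf t = 2 → t ≠ 1 ∧ t ^ 2 ^ (n : ℕ) = 1 := fun t ht =>
    ⟨fun e => by simp [e] at ht, hq.pow_q t 1 (by rw [pow_one, ← ht, pow_orderOf_eq_one])⟩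
  have hab : ∀ t : H, orderOf t = 2 → IsMulCommutative ↥(centralizer ({t} : Set H)) := fun t ht => by
    obtain ⟨S, hS⟩ := hq.exists_sylow_cent (hpow t ht).1 (hpow t ht).2
    refine ⟨⟨fun a b => Subtype.ext (hq.sylow_comm S a ?_ b ?_)⟩⟩ <;> rw [hS] <;> exact SetLike.coe_mem _
  have heven : Even (Nat.card H) := even_iff_two_dvd.2 (hq.card ▸ dvd_mul_of_dvd_left
    (dvd_pow_self 2 n.ne_zero) _)
  rcases S2202.result heven hab with hcyc | hnor | ⟨K, i1, i2, A, i3, i4, hK2, hA, ⟨e⟩⟩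
  · exfalso
    obtain ⟨S⟩ := (inferInstance : Nonempty (Sylow 2 H))
    haveI := hcyc S
    obtain ⟨a, ha⟩ := IsCyclic.exists_generator (α := (S : Subgroup H))
    have h1 := orderOf_eq_card_of_forall_mem_zpowers ha
    rw [hq.card_sylow S] at h1
    have h2' : orderOf a ∣ 2 := orderOf_dvd_of_pow_eq_one (Subtype.ext (by
      rw [SubgroupClass.coe_pow, pow_two]; exact hq.sq_eq_one_two rfl (hq.pow_of_mem S a.2)))
    rw [h1] at h2'
    have := Nat.le_of_dvd two_pos h2'
    omega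
  · exfalso
    obtain ⟨S⟩ := (inferInstance : Nonempty (Sylow 2 H))
    haveI := Sylow.unique_of_normal S (hnor S)
    have h1 := hq.count
    have h2' : Nat.card {x : H // x ≠ 1 ∧ x ^ 2 ^ (n : ℕ) = 1} ≤ Nat.card (S : Subgroup H) := by
      refine Nat.card_le_card_of_injective (fun x => (⟨x.1, ?_⟩ : (S : Subgroup H))) fun x y e =>
        Subtype.ext (congrArg (fun z : (S : Subgroup H) => (z : H)) e)
      obtain ⟨T, hT⟩ := hq.exists_sylow_cent x.2.1 x.2.2
      rw [Subsingleton.elim S T, hT]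
      exact mem_centralizer_singleton_iff.2 rfl
    rw [h1, hq.card_sylow S, hQ, one_mul] at h2'
    nlinarith
  haveI := hK2
  have hK20 : (2 : K) = 0 := CharP.cast_eq_zero K 2
  -- the abelian factor is trivial
  haveI : Subsingleton A := by
    refine Finite.card_le_one_iff_subsingleton.1 (le_of_eq ?_)
    have hne : (PSL2.uu (1 : K)) ≠ 1 := fun e' => by
      have h9 := congrArg (fun g : SL(2, K) => (g : Matrix (Fin 2) (Fin 2) K) 0 1) e'
      simp [PSL2.uu] at h9
    have hsq : PSL2.uu (1 : K) * PSL2.uu (1 : K) = 1 := by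
      rw [PSL2.uu_mul_uu, one_add_one_eq_two, hK20, PSL2.uu_zero]
    set t := e.symm (PSL2.uu (1 : K), 1) with ht
    have hto : orderOf t = 2 := by
      rw [ht, MulEquiv.orderOf_eq]
      exact orderOf_eq_prime (by rw [pow_two, Prod.mk_mul_mk, hsq, one_mul]; rfl)
        fun e' => hne (congrArg Prod.fst e')
    obtain ⟨m, hm⟩ : Nat.card A ∣ Nat.card (centralizer ({t} : Set H)) := by
      refine card_dvd_of_injective ((e.symm.toMonoidHom.comp (MonoidHom.inr _ A)).codRestrict _ fun a =>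
        mem_centralizer_singleton_iff.2 ?_) fun a b he => ?_
      · show e.symm ((1 : SL(2, K)), a) * t = t * e.symm ((1 : SL(2, K)), a)
        rw [ht, ← map_mul, ← map_mul, Prod.mk_mul_mk, Prod.mk_mul_mk, one_mul, mul_one, one_mul, mul_one]
      · exact congrArg Prod.snd (e.symm.injective (congrArg Subtype.val he))
    rw [hq.card_cent t (hpow t hto).1 (hpow t hto).2] at hm
    obtain ⟨j, -, hj⟩ := (Nat.dvd_prime_pow Nat.prime_two).1 (Dvd.intro _ hm.symm)
    rcases Nat.eq_zero_or_pos j with rfl | hj0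
    · exact hj
    · exact absurd (even_iff_two_dvd.2 (hj ▸ dvd_pow_self 2 hj0.ne')) (Nat.not_even_iff_odd.2 hA)
  letI : Unique A := uniqueOfSubsingleton 1
  have e2 : H ≃* PSL(2, K) := (e.trans (MulEquiv.prodUnique (M := SL(2, K)) (N := A))).trans
    (QuotientGroup.quotientMulEquivOfEq (center_SL_eq_bot hK20) |>.trans QuotientGroup.quotientBot).symm
  have hcard : Fintype.card K = Fintype.card F := by
    have h1 := PSL2.Recog.card_PSL_even hK20
    rw [← Nat.card_congr e2.toEquiv, hq.card, hQ] at h1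
    rw [hn, hQ]
    obtain ⟨L, hL⟩ : ∃ L, Fintype.card K = L + 1 := ⟨Fintype.card K - 1, by
      have := Fintype.card_pos (α := K); omega⟩
    rw [hL] at h1 ⊢
    rw [show (L + 1) ^ 2 - 1 = L * (L + 2) by
      rw [show (L + 1) ^ 2 = L * (L + 2) + 1 by ring, Nat.add_sub_cancel]] at h1
    rcases lt_trichotomy L Q with hlt | heq | hlt
    · exfalso
      have : (L + 1) * (L * (L + 2)) < (Q + 1) * (Q * (Q + 2)) :=
        Nat.mul_lt_mul'' (by omega) (Nat.mul_lt_mul'' hlt (by omega))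
      omega
    · omega
    · exfalso
      have : (Q + 1) * (Q * (Q + 2)) < (L + 1) * (L * (L + 2)) :=
        Nat.mul_lt_mul'' (by omega) (Nat.mul_lt_mul'' hlt (by omega))
      omega
  exact ⟨e2.trans (PSL2.pslCongr (FiniteField.ringEquivOfCardEq hcard))⟩

end Cfsg.Agent.PSLSizes
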