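import Cfsg.Agent.Lib.PSL2.ClassSizes.Order
import Cfsg.Agent.Lib.PStability.Corollaries
import Cfsg.Agent.Lib.Quadratic.LocallyFree

/-!
# Centralisers of order `q`: the Sylow `p`-subgroups are abelian

Either an involution normalises a Sylow subgroup and inverts it, or all `p`-local subgroups have odd order and
`Z(J)` controls fusion.
-/

set_option autoImplicit false
set_option linter.style.haveILetI false

namespace Cfsg.Agent.PSLSizes

open Subgroup
open scoped MatrixGroups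

universe w₀

variable {H : Type w₀} [Group H] [Finite H]

/-- Order `q u`, centralisers of order `q` and `δ u` non-trivial `p`-elements. -/
structure QHyp (H : Type w₀) [Group H] (p k δ u : ℕ) : Prop where
  hp : p.Prime
  four_le : 4 ≤ p ^ k
  hδ : δ = 1 ∨ δ = 2
  hu : δ * u + 1 = (p ^ k) ^ 2
  card : Nat.card H = p ^ k * u
  pow_q : ∀ x : H, ∀ i : ℕ, x ^ p ^ i = 1 → x ^ p ^ k = 1
  card_cent : ∀ x : H, x ≠ 1 → x ^ p ^ k = 1 → Nat.card (centralizer ({x} : Set H)) = p ^ k
  count : Nat.card {x : H // x ≠ 1 ∧ x ^ p ^ k = 1} = δ * u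

theorem Hyp.qhyp {G : Type w₀} [Group G] [Finite G] {p k δ u v w : ℕ} (h : Hyp G p k δ u v w) :
    QHyp (G ⧸ center G) p k δ u where
  hp := h.hp
  four_le := h.four_le
  hδ := h.hδ
  hu := h.hu
  card := h.card_quotient
  pow_q _ _ hi := h.pow_q_eq_one hi
  card_cent _ hx hq := h.card_centralizer hx hq
  count := by
    classical
    haveI := Fintype.ofFinite (G ⧸ center G)
    rw [← h.card_pElements_classes, Nat.card_eq_fintype_card, Fintype.card_subtype]
    congr 1
    ext x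
    simp [Finset.mem_erase]

/-- An involution without fixed points on an invariant subgroup inverts it. -/
theorem inv_of_fpf {t : H} (ht : t * t = 1) {D : Subgroup H} (hD : ∀ x ∈ D, t * x * t⁻¹ ∈ D)
    (hfix : ∀ x ∈ D, t * x = x * t → x = 1) {x : H} (hx : x ∈ D) : t * x * t⁻¹ = x⁻¹ := by
  let f : D →* D := MonoidHom.mk' (fun y => ⟨t * y * t⁻¹, hD y y.2⟩) fun a b => Subtype.ext (by
    show t * (a * b : D) * t⁻¹ = t * a * t⁻¹ * (t * b * t⁻¹)
    rw [coe_mul]; group)
  have h1 : MonoidHom.FixedPointFree ⇑f := fun y hy => Subtype.ext (hfix y y.2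
    (mul_inv_eq_iff_eq_mul.1 (congrArg Subtype.val hy)))
  have h2 : Function.Involutive ⇑f := fun y => Subtype.ext (by
    show t * (t * y * t⁻¹) * t⁻¹ = y
    rw [inv_eq_of_mul_eq_one_right ht, ← mul_assoc, ← mul_assoc, ht, one_mul, mul_assoc, ht, mul_one])
  exact congrArg Subtype.val (congrFun (h1.coe_eq_inv_of_involutive h2) ⟨x, hx⟩)

theorem center_le_centerThompsonAOf {S : Subgroup H} {z : H} (hz : z ∈ S)
    (hzc : ∀ y ∈ S, y * z = z * y) : z ∈ Cfsg.centerThompsonAOf S := by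
  classical
  set z' : S := ⟨z, hz⟩
  have hzc' : ∀ y : S, y * z' = z' * y := fun y => Subtype.ext (hzc y y.2)
  obtain ⟨A, hA, hmax⟩ := Set.exists_max_image {A : Subgroup S | IsMulCommutative A}
    (fun A => Nat.card A) (Set.toFinite _) ⟨⊥, ⟨⟨fun a b => by
      rw [Subsingleton.elim a b]⟩⟩⟩
  have hzA : z' ∈ A := by
    haveI : IsMulCommutative A := hA
    have hcl : IsMulCommutative (A ⊔ zpowers z' : Subgroup S) := by
      rw [sup_eq_closure]
      refine Subgroup.isMulCommutative_closure ?_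
      rintro a (ha | ha) b (hb | hb)
      · exact congrArg Subtype.val (IsMulCommutative.is_comm.comm (⟨a, ha⟩ : A) ⟨b, hb⟩)
      · obtain ⟨i, rfl⟩ := hb
        exact ((show Commute a z' from hzc' a).zpow_right i).eq
      · obtain ⟨i, rfl⟩ := ha
        exact ((show Commute z' b from (hzc' b).symm).zpow_left i).eq
      · obtain ⟨i, rfl⟩ := ha
        obtain ⟨j, rfl⟩ := hb
        exact ((Commute.refl z').zpow_zpow i j).eq
    rw [eq_of_le_of_card_ge le_sup_left (hmax _ hcl)]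
    exact mem_sup_right (mem_zpowers z')
  refine mem_inf.2 ⟨?_, mem_centralizer_iff.2 fun y hy => ?_⟩
  · exact ⟨z', le_sSup (show A ∈ Cfsg.maxAbelianSubgroups S from ⟨hA, fun B hB => hmax B hB⟩) hzA, rfl⟩
  · obtain ⟨y', -, rfl⟩ := hy
    exact hzc y' y'.2

namespace QHyp

variable {p k δ u : ℕ} (h : QHyp H p k δ u)
include h

omit [Finite H] in
theorem k_pos : 0 < k := Nat.pos_of_ne_zero fun hk => by
  have := h.four_le
  rw [hk, pow_zero] at this
  omega

omit [Finite H] in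
theorem u_pos : 0 < u := Nat.pos_of_ne_zero fun hu => by
  have := h.hu
  have := Nat.mul_le_mul h.four_le h.four_le
  rw [hu, pow_two] at *
  omega

omit [Finite H] in
theorem not_dvd_u : ¬ p ∣ u := fun hd => by
  have h1 : p ∣ (p ^ k) ^ 2 := dvd_pow (dvd_pow_self p h.k_pos.ne') two_ne_zero
  rw [← h.hu] at h1
  exact h.hp.not_dvd_one ((Nat.dvd_add_right (dvd_mul_of_dvd_right hd δ)).1 h1)

theorem card_sylow [Fact p.Prime] (S : Sylow p H) : Nat.card S = p ^ k := by
  rw [Sylow.card_eq_multiplicity, h.card, Nat.factorization_mul (pow_ne_zero _ h.hp.ne_zero) h.u_pos.ne',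
    Finsupp.add_apply, Nat.Prime.factorization_pow h.hp, Finsupp.single_eq_same,
    Nat.factorization_eq_zero_of_not_dvd h.not_dvd_u, add_zero]

theorem pow_of_mem [Fact p.Prime] (S : Sylow p H) {x : H} (hx : x ∈ (S : Subgroup H)) :
    x ^ p ^ k = 1 := by
  rw [← h.card_sylow S]
  exact orderOf_dvd_iff_pow_eq_one.1 (orderOf_dvd_natCard _ hx)

/-- The centraliser of a non-trivial `p`-element is a Sylow subgroup. -/
theorem exists_sylow_cent [Fact p.Prime] {x : H} (hx : x ≠ 1) (hq : x ^ p ^ k = 1) :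
    ∃ S : Sylow p H, (S : Subgroup H) = centralizer ({x} : Set H) := by
  obtain ⟨S, hS⟩ := (IsPGroup.of_card (G := centralizer ({x} : Set H)) (p := p) (n := k)
    (h.card_cent x hx hq)).exists_le_sylow
  exact ⟨S, (eq_of_le_of_card_ge hS (by rw [h.card_sylow, h.card_cent x hx hq])).symm⟩

theorem centralizer_eq_of_central [Fact p.Prime] (S : Sylow p H) {z : H} (hz : z ∈ (S : Subgroup H))
    (hz1 : z ≠ 1) (hzc : ∀ y ∈ (S : Subgroup H), y * z = z * y) :
    centralizer ({z} : Set H) = S :=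
  (eq_of_le_of_card_ge (fun y hy => mem_centralizer_singleton_iff.2 (hzc y hy))
    (by rw [h.card_cent z hz1 (h.pow_of_mem S hz), h.card_sylow])).symm

/-- An involution centralises no non-trivial `p`-element, `p` odd. -/
theorem not_commute_involution (h2 : p ≠ 2) {t x : H} (ht : orderOf t = 2) (hx : x ≠ 1)
    (hq : x ^ p ^ k = 1) : t * x ≠ x * t := fun hc => by
  have h1 := orderOf_dvd_natCard _ (mem_centralizer_singleton_iff.2 hc)
  rw [h.card_cent x hx hq, ht] at h1
  exact h2 ((Nat.prime_dvd_prime_iff_eq Nat.prime_two h.hp).1 (Nat.prime_two.dvd_of_dvd_pow h1)).symm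

/-- With one class of `p`-elements. -/
theorem isConj_of_delta (hδ : δ = 1) {x y : H} (hx : x ≠ 1) (hxq : x ^ p ^ k = 1) (hy : y ≠ 1)
    (hyq : y ^ p ^ k = 1) : IsConj x y := by
  classical
  haveI := Fintype.ofFinite H
  set E : Finset H := Finset.univ.filter fun z => z ≠ 1 ∧ z ^ p ^ k = 1 with hE
  have hsub : (ConjClasses.mk x).carrier ⊆ (E : Set H) := by
    intro z hz
    obtain ⟨g, rfl⟩ := isConj_iff.1
      (ConjClasses.mk_eq_mk_iff_isConj.1 (ConjClasses.mem_carrier_iff_mk_eq.1 hz)).symm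
    simp only [hE, Finset.coe_filter, Finset.mem_univ, true_and, Set.mem_setOf_eq]
    exact ⟨fun e => hx (by simpa using e), by rw [conj_pow, hxq]; group⟩
  have hidx : (centralizer ({x} : Set H)).index = u := by
    have h1 := card_mul_index (centralizer ({x} : Set H))
    rw [h.card_cent x hx hxq, h.card] at h1
    exact Nat.eq_of_mul_eq_mul_left (Nat.pow_pos h.hp.pos) h1
  have heq : (ConjClasses.mk x).carrier = (E : Set H) := by
    refine Set.eq_of_subset_of_ncard_le hsub ?_ E.finite_toSet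
    rw [PrimeParts.ncard_carrier, hidx, Set.ncard_coe_finset, ← Fintype.card_subtype,
      ← Nat.card_eq_fintype_card, h.count, hδ, one_mul]
  have hyE : y ∈ (ConjClasses.mk x).carrier := by
    rw [heq]; simp [hE, hy, hyq]
  exact (ConjClasses.mk_eq_mk_iff_isConj.1 (ConjClasses.mem_carrier_iff_mk_eq.1 hyE)).symm

theorem sq_eq_one_two (hp2 : p = 2) {x : H} (hq : x ^ p ^ k = 1) : x * x = 1 := by
  rcases eq_or_ne x 1 with rfl | hx
  · rw [one_mul]
  have hδ : δ = 1 := by
    rcases h.hδ with e | e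
    · exact e
    · exfalso
      have h1 : 2 ∣ (p ^ k) ^ 2 := (dvd_of_eq hp2.symm).trans (dvd_pow (dvd_pow_self p h.k_pos.ne') two_ne_zero)
      have := h.hu
      rw [e] at this
      omega
  subst hp2
  haveI := Fact.mk Nat.prime_two
  have hd : 2 ∣ Nat.card H := h.card ▸ dvd_mul_of_dvd_left (dvd_pow_self 2 h.k_pos.ne') u
  obtain ⟨t, ht⟩ := exists_prime_orderOf_dvd_card' 2 hd
  have ht1 : t ≠ 1 := fun e => by simp [e] at ht
  have htq := h.pow_q t 1 (by rw [pow_one, ← ht, pow_orderOf_eq_one])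
  obtain ⟨g, rfl⟩ := isConj_iff.1 (h.isConj_of_delta hδ ht1 htq hx hq)
  rw [← sq, conj_pow, ← ht, pow_orderOf_eq_one]
  group

theorem odd_local (h2 : p ≠ 2) [Fact p.Prime] (S : Sylow p H)
    (hno : ∀ t ∈ normalizer ((S : Subgroup H) : Set H), orderOf t ≠ 2) {D : Subgroup H}
    (hD : IsPGroup p D) (hD1 : D ≠ ⊥) : Odd (Nat.card (normalizer (D : Set H))) := by
  rw [← Nat.not_even_iff_odd, even_iff_two_dvd]
  intro hd
  haveI : Fact (Nat.Prime 2) := ⟨Nat.prime_two⟩
  obtain ⟨⟨t, htN⟩, ht⟩ := exists_prime_orderOf_dvd_card' (G := normalizer (D : Set H)) 2 hd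
  rw [orderOf_mk] at ht
  have htt : t * t = 1 := by rw [← sq, ← ht, pow_orderOf_eq_one]
  have hpe : ∀ x ∈ D, x ^ p ^ k = 1 := fun x hx => by
    obtain ⟨i, hi⟩ := hD ⟨x, hx⟩
    exact h.pow_q x i (by simpa using congrArg Subtype.val hi)
  obtain ⟨z, hz, hz1⟩ := D.bot_or_exists_ne_one.resolve_left hD1
  have hinv := inv_of_fpf htt (fun x hx => (mem_normalizer_iff.1 htN x).1 hx)
    (fun x hx hc => by_contra fun hx1 => h.not_commute_involution h2 ht hx1 (hpe x hx) hc) hz
  obtain ⟨T, hT⟩ := h.exists_sylow_cent hz1 (hpe z hz)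
  obtain ⟨g, hg⟩ := MulAction.exists_smul_eq H T S
  refine hno (g * t * g⁻¹) ?_ (by rw [← MulAut.conj_apply, MulEquiv.orderOf_eq, ht])
  have hmem : ∀ c, c ∈ (S : Subgroup H) ↔ g⁻¹ * c * g * z = z * (g⁻¹ * c * g) := by
    intro c
    rw [← hg, Sylow.coe_subgroup_smul, mem_pointwise_smul_iff_inv_smul_mem, hT,
      mem_centralizer_singleton_iff]
    simp [MulAut.smul_def]
  have hfw : ∀ c, g⁻¹ * c * g * z = z * (g⁻¹ * c * g) →
      g⁻¹ * (g * t * g⁻¹ * c * (g * t * g⁻¹)⁻¹) * g * z =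
        z * (g⁻¹ * (g * t * g⁻¹ * c * (g * t * g⁻¹)⁻¹) * g) := fun c hc => by
    have e1 : g⁻¹ * (g * t * g⁻¹ * c * (g * t * g⁻¹)⁻¹) * g = t * (g⁻¹ * c * g) * t⁻¹ := by group
    have e2 := congrArg (fun w => t * w * t⁻¹) ((show Commute (g⁻¹ * c * g) z from hc).inv_right).eq
    rw [show t * (g⁻¹ * c * g * z⁻¹) * t⁻¹ = t * (g⁻¹ * c * g) * t⁻¹ * (t * z * t⁻¹)⁻¹ by group,
      show t * (z⁻¹ * (g⁻¹ * c * g)) * t⁻¹ = (t * z * t⁻¹)⁻¹ * (t * (g⁻¹ * c * g) * t⁻¹) by group,
      hinv, inv_inv] at e2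
    rw [e1]
    exact e2
  have hss : (g * t * g⁻¹) * (g * t * g⁻¹) = 1 := by
    rw [show g * t * g⁻¹ * (g * t * g⁻¹) = g * (t * t) * g⁻¹ by group, htt]; group
  refine mem_normalizer_iff.2 fun c => ⟨fun hc => (hmem _).2 (hfw c ((hmem c).1 hc)), fun hc => ?_⟩
  have h1 := (hmem _).2 (hfw _ ((hmem _).1 hc))
  rwa [show g * t * g⁻¹ * (g * t * g⁻¹ * c * (g * t * g⁻¹)⁻¹) * (g * t * g⁻¹)⁻¹ =
    (g * t * g⁻¹ * (g * t * g⁻¹)) * c * (g * t * g⁻¹ * (g * t * g⁻¹))⁻¹ by group, hss, one_mul,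
    inv_one, mul_one] at h1

/-- The Sylow `p`-subgroups are abelian. -/
theorem sylow_comm [Fact p.Prime] (S : Sylow p H) :
    ∀ x ∈ (S : Subgroup H), ∀ y ∈ (S : Subgroup H), x * y = y * x := by
  have comm_of_inv : ∀ {t : H}, (∀ x ∈ (S : Subgroup H), t * x * t⁻¹ = x⁻¹) →
      ∀ x ∈ (S : Subgroup H), ∀ y ∈ (S : Subgroup H), x * y = y * x := fun {t} hi x hx y hy => by
    have e := hi _ (mul_mem hx hy)
    rw [show t * (x * y) * t⁻¹ = (t * x * t⁻¹) * (t * y * t⁻¹) by group, hi x hx, hi y hy,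
      ← mul_inv_rev] at e
    exact (inv_injective e).symm
  rcases eq_or_ne p 2 with hp2 | h2
  · intro x hx y hy
    have e := fun {z} (hz : z ∈ (S : Subgroup H)) =>
      inv_eq_of_mul_eq_one_right (h.sq_eq_one_two hp2 (h.pow_of_mem S hz))
    exact comm_of_inv (t := 1) (fun z hz => by rw [one_mul, inv_one, mul_one, e hz]) x hx y hy
  by_cases hinvol : ∃ t ∈ normalizer ((S : Subgroup H) : Set H), orderOf t = 2
  · obtain ⟨t, htN, ht⟩ := hinvol
    refine comm_of_inv (t := t) fun x hx => inv_of_fpf (by rw [← sq, ← ht, pow_orderOf_eq_one])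
      (fun x hx => (mem_normalizer_iff.1 htN x).1 hx) (fun x hx hc => by_contra fun hx1 =>
        h.not_commute_involution h2 ht hx1 (h.pow_of_mem S hx) hc) hx
  push Not at hinvol
  have hst : Cfsg.IsNormalizerPStable p H := by
    refine Quadratic.isNormalizerPStable_of_locallyFree h2 fun Q hQ K φ hK hφ => ?_
    rcases eq_or_ne Q ⊥ with rfl | hQ1
    · obtain ⟨x, hx⟩ := hφ (-1)
      refine ⟨x, by simp [mem_centralizer_iff], fun e => ?_⟩
      have h1 : ((-1 : SL(2, ZMod p)) : Matrix (Fin 2) (Fin 2) (ZMod p)) 0 0 = 1 := by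
        rw [← hx, e]; simp
      simp only [Matrix.SpecialLinearGroup.coe_neg, Matrix.SpecialLinearGroup.coe_one,
        Matrix.neg_apply, Matrix.one_apply_eq] at h1
      exact h2 (by
        haveI : Fact (2 < p) := ⟨lt_of_le_of_ne h.hp.two_le (Ne.symm h2)⟩
        exact absurd h1 ZMod.neg_one_ne_one)
    · exfalso
      have hodd := h.odd_local h2 S hinvol hQ hQ1
      have h3 : Nat.card SL(2, ZMod p) ∣ Nat.card (normalizer (Q : Set H)) :=
        (card_dvd_of_surjective φ hφ).trans (card_dvd_of_le hK)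
      obtain ⟨x, hx⟩ := hφ (-1)
      have h4 : orderOf (-1 : SL(2, ZMod p)) = 2 := by
        haveI : Fact (2 < p) := ⟨lt_of_le_of_ne h.hp.two_le (Ne.symm h2)⟩
        refine orderOf_eq_prime (by rw [sq, neg_mul_neg, one_mul]) fun e => ?_
        have h1 := congrArg (fun m : SL(2, ZMod p) => (m : Matrix (Fin 2) (Fin 2) (ZMod p)) 0 0) e
        simp only [Matrix.SpecialLinearGroup.coe_neg, Matrix.SpecialLinearGroup.coe_one,
          Matrix.neg_apply, Matrix.one_apply_eq] at h1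
        exact ZMod.neg_one_ne_one h1
      exact Nat.not_even_iff_odd.2 hodd (even_iff_two_dvd.2
        (h4 ▸ (orderOf_dvd_natCard (-1 : SL(2, ZMod p))).trans h3))
  set W := Cfsg.inducedFunctor (G := H) PComplement.zjAFunctor (S : Subgroup H) with hW
  have hWe : W = Cfsg.centerThompsonAOf (S : Subgroup H) := PComplement.wOf_zjA _
  have hin : ∀ y ∈ (S : Subgroup H), y ∈ W := by
    intro y hy
    rcases eq_or_ne y 1 with rfl | hy1
    · exact one_mem _
    obtain ⟨T, hT⟩ := h.exists_sylow_cent hy1 (h.pow_of_mem S hy)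
    obtain ⟨g, hg⟩ := MulAction.exists_smul_eq H T S
    set z := g * y * g⁻¹ with hz
    have hmem : ∀ c, c ∈ (S : Subgroup H) ↔ g⁻¹ * c * g * y = y * (g⁻¹ * c * g) := by
      intro c
      rw [← hg, Sylow.coe_subgroup_smul, mem_pointwise_smul_iff_inv_smul_mem, hT,
        mem_centralizer_singleton_iff]
      simp [MulAut.smul_def]
    have hzS : z ∈ (S : Subgroup H) := (hmem z).2 (by rw [hz]; group)
    have hzc : ∀ c ∈ (S : Subgroup H), c * z = z * c := fun c hc => by
      calc c * z = g * (g⁻¹ * c * g * y) * g⁻¹ := by rw [hz]; group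
        _ = z * c := by rw [(hmem c).1 hc, hz]; group
    obtain ⟨x, hx, he⟩ := PStability.exists_normalizer_conj h2 PComplement.isCharPFunctor_zjA
      (fun _ _ _ hX hc T => PStability.zjA_normal h2 hX hc T) hst S (A := {z}) (g := g⁻¹)
      (by rintro a rfl; exact hzS) (by
        rintro a rfl
        rw [hz]; group; simpa using hy)
    have hzW : z ∈ W := hWe ▸ center_le_centerThompsonAOf hzS hzc
    have h1 := he z rfl
    rw [show g⁻¹ * z * g⁻¹⁻¹ = y by rw [hz]; group] at h1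
    exact h1 ▸ (mem_normalizer_iff.1 hx z).1 hzW
  intro x hx y hy
  have hxW := hin x hx
  have hyW := hin y hy
  rw [hWe] at hxW hyW
  exact (mem_centralizer_iff.1 hyW.2 x hxW.1)

end QHyp

end Cfsg.Agent.PSLSizes
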