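import Cfsg.Agent.Lib.ClassSize.CoprimeTop

/-!
# The order of `G / Z(G)` from isolated class sizes

A class size `n` is isolated when no other non-trivial class size is a multiple or a divisor of it.  If `r` is a
prime not dividing some other class size then `n` carries the whole `r`-part of `|G : Z(G)|`.
-/

set_option autoImplicit false
set_option linter.style.haveILetI false

namespace Cfsg.Agent.PSLSizes

open Subgroup Cfsg.Agent.ClassSize.CoprimeTop

variable {G : Type*} [Group G] [Finite G]

/-- `n` is a class size comparable only to itself. -/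
structure Isolated (G : Type*) [Group G] (n : ℕ) : Prop where
  ne_one : n ≠ 1
  mem : ∃ g : G, cl g = n
  eq_of : ∀ g : G, g ∉ center G → (n ∣ cl g ∨ cl g ∣ n) → cl g = n

omit [Finite G] in
theorem Isolated.not_central {n : ℕ} (hn : Isolated G n) {a : G} (ha : cl a = n) :
    cl a ≠ 1 := ha ▸ hn.ne_one

theorem notMem_of_le {a b : G} (h : cent a ≤ cent b) (hb : b ∉ center G) : a ∉ center G :=
  fun ha => hb (cl_eq_one.1 (Nat.dvd_one.1 (cl_eq_one.2 ha ▸ cl_dvd h)))

theorem Isolated.of_le {n : ℕ} (hn : Isolated G n) {a b : G} (ha : cl a = n) (hb : b ∉ center G)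
    (h : cent a ≤ cent b) : cent a = cent b ∧ cl b = n :=
  have hbn := hn.eq_of b hb (Or.inr (ha ▸ cl_dvd h))
  ⟨eq_of_le_of_cl h (by omega), hbn⟩

theorem Isolated.of_ge {n : ℕ} (hn : Isolated G n) {a b : G} (ha : cl a = n)
    (h : cent b ≤ cent a) : cent b = cent a ∧ cl b = n :=
  have hbn := hn.eq_of b (notMem_of_le h fun hc => hn.not_central ha (cl_eq_one.2 hc))
    (Or.inl (ha ▸ cl_dvd h))
  ⟨eq_of_le_of_cl h (by omega), hbn⟩

/-- `|C(g) : Z(G)|`. -/
noncomputable def co (g : G) : ℕ := (center G).relIndex (cent g)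

theorem co_mul_cl (g : G) : co g * cl g = (center G).index :=
  relIndex_mul_index (center_le_cent g)

theorem cl_dvd_index (g : G) : cl g ∣ (center G).index := Dvd.intro_left _ (co_mul_cl g)

theorem co_pos (g : G) : 0 < co g := by
  rcases Nat.eq_zero_or_pos (co g) with h | h
  · have := co_mul_cl g
    rw [h, zero_mul] at this
    exact absurd this.symm index_ne_zero_of_finite
  · exact h

/-- A central quotient is an `r`-group when every `r'`-element is central. -/
theorem isPGroup_quotient {r : ℕ} {H : Subgroup G} [((center G).subgroupOf H).Normal]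
    (h : ∀ b ∈ H, (orderOf b).Coprime r → b ∈ center G) (hr : r.Prime) :
    IsPGroup r (H ⧸ (center G).subgroupOf H) := by
  intro x
  obtain ⟨g, rfl⟩ := QuotientGroup.mk_surjective x
  obtain ⟨a, b, ha, hb, he, -, -, hra, hrb⟩ := exists_split r (g : G)
  have hbz : b ∈ center G := h b ((zpowers_le.2 g.2) hb) hrb
  obtain ⟨j, hj⟩ : ∃ j, orderOf a = r ^ j := by
    refine ⟨_, Nat.eq_prime_pow_of_unique_prime_dvd (orderOf_pos a).ne' fun {q} hq hqa => ?_⟩
    exact (Nat.prime_dvd_prime_iff_eq hq hr).1 (hra q hq hqa)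
  refine ⟨j, ?_⟩
  rw [← QuotientGroup.mk_pow, QuotientGroup.eq_one_iff, mem_subgroupOf, SubgroupClass.coe_pow, he,
    (show Commute a b from (mem_center_iff.1 hbz a)).mul_pow, ← hj, pow_orderOf_eq_one, one_mul]
  exact pow_mem hbz _

theorem exists_co_eq_pow {r : ℕ} (hr : r.Prime) (g : G)
    (h : ∀ b ∈ cent g, (orderOf b).Coprime r → b ∈ center G) : ∃ j, co g = r ^ j := by
  haveI := Fact.mk hr
  haveI : ((center G).subgroupOf (cent g)).Normal := ⟨fun x hx y => by
    rw [mem_subgroupOf] at hx ⊢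
    rw [coe_mul, coe_mul, mem_center_iff.1 hx y, mul_assoc, coe_inv, mul_inv_cancel, mul_one]
    exact hx⟩
  exact IsPGroup.iff_card.1 (isPGroup_quotient h hr)

/-- Without a non-central `r`-element `|C(g) : Z(G)|` is prime to `r`. -/
theorem not_dvd_co {r : ℕ} (hr : r.Prime) (g : G)
    (h : ∀ a ∈ cent g, (∃ j, orderOf a = r ^ j) → a ∈ center G) : ¬ r ∣ co g := by
  haveI := Fact.mk hr
  haveI : ((center G).subgroupOf (cent g)).Normal := ⟨fun x hx y => by
    rw [mem_subgroupOf] at hx ⊢
    rw [coe_mul, coe_mul, mem_center_iff.1 hx y, mul_assoc, coe_inv, mul_inv_cancel, mul_one]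
    exact hx⟩
  intro hd
  obtain ⟨x, hx⟩ := exists_prime_orderOf_dvd_card' (G := cent g ⧸ (center G).subgroupOf (cent g)) r hd
  obtain ⟨y, rfl⟩ := QuotientGroup.mk_surjective x
  obtain ⟨a, b, ha, hb, he, hab, -, hra, hrb⟩ := exists_split r (y : G)
  have haz : a ∈ center G := h a ((zpowers_le.2 y.2) ha)
    ⟨_, Nat.eq_prime_pow_of_unique_prime_dvd (orderOf_pos a).ne' fun {q} hq hqa =>
      (Nat.prime_dvd_prime_iff_eq hq hr).1 (hra q hq hqa)⟩
  have h1 : (y : cent g ⧸ (center G).subgroupOf (cent g)) ^ orderOf b = 1 := by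
    rw [← QuotientGroup.mk_pow, QuotientGroup.eq_one_iff, mem_subgroupOf, SubgroupClass.coe_pow, he,
      (show Commute a b from hab).mul_pow, pow_orderOf_eq_one, mul_one]
    exact pow_mem haz _
  have h2 := orderOf_dvd_of_pow_eq_one h1
  rw [hx] at h2
  exact (hr.coprime_iff_not_dvd.1 hrb.symm) h2

/-- An isolated class size carries the whole `r`-part. -/
theorem factorization_index {r : ℕ} (hr : r.Prime) {n m : ℕ} (hn : Isolated G n)
    (hg : ∃ g : G, cl g = m) (hm1 : m ≠ 1) (hmn : m ≠ n) (hrm : ¬ r ∣ m) :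
    (center G).index.factorization r = n.factorization r := by
  haveI := Fact.mk hr
  obtain ⟨g₀, hg₀⟩ := hg
  have hg₀c : g₀ ∉ center G := fun h => hm1 (hg₀ ▸ cl_eq_one.2 h)
  have hnm : ¬ (n ∣ m ∨ m ∣ n) := fun h => hmn (hg₀ ▸ hn.eq_of g₀ hg₀c (hg₀ ▸ h))
  -- an `r'`-element of class size `n`
  obtain ⟨x, hx, hxr⟩ : ∃ x : G, cl x = n ∧ (orderOf x).Coprime r := by
    obtain ⟨x, hx⟩ := hn.mem
    obtain ⟨a, b, -, -, rfl, hab, hco, hra, hrb⟩ := exists_split r x
    have he := cent_mul_coprime hab hco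
    by_cases hb : b ∈ center G
    · have hxa : cent (a * b) = cent a := by
        rw [he]
        exact inf_eq_left.2 fun v _ => cent_comm.2 (center_le_cent v hb)
      have ha : cl a = n := by rw [← hx, cl, cl, hxa]
      by_cases hh : ∃ h ∈ cent a, (orderOf h).Coprime r ∧ h ∉ center G
      · obtain ⟨h, hha, hhr, hhz⟩ := hh
        have hah : (orderOf a).Coprime (orderOf h) := Nat.coprime_of_dvd fun q hq h1 h2 => by
          have := hra q hq h1
          exact Nat.not_coprime_of_dvd_of_dvd hq.one_lt h2 this hhr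
        have e := cent_mul_coprime (mem_cent.1 hha) hah
        have h1 := hn.of_ge ha (b := a * h) (e ▸ inf_le_left)
        exact ⟨h, (hn.of_le ha hhz (by rw [← h1.1, e]; exact inf_le_right)).2, hhr⟩
      · exfalso
        push Not at hh
        obtain ⟨j, hj⟩ := exists_co_eq_pow hr a hh
        have h1 := co_mul_cl a
        rw [hj, ha] at h1
        have h2 : m ∣ r ^ j * n := h1 ▸ hg₀ ▸ cl_dvd_index g₀
        exact hnm (Or.inr (((hr.coprime_iff_not_dvd.2 hrm).symm.pow_right j).dvd_of_dvd_mul_left h2))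
    · exact ⟨b, (hn.of_le hx hb (he ▸ inf_le_right)).2, hrb⟩
  -- its centraliser has no non-central `r`-element
  have key : ¬ r ∣ co x := by
    refine not_dvd_co hr x fun a hax ⟨j, hj⟩ => ?_
    by_contra haz
    have hxa : (orderOf x).Coprime (orderOf a) := by rw [hj]; exact hxr.pow_right j
    have e := cent_mul_coprime (mem_cent.1 hax) hxa
    have h1 := (hn.of_ge hx (b := x * a) (e ▸ inf_le_left)).1
    obtain ⟨heq, ha⟩ := hn.of_le hx haz (by rw [← h1, e]; exact inf_le_right)
    -- a conjugate of `g₀` centralised by a Sylow subgroup containing `a`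
    obtain ⟨R, hR⟩ := (IsPGroup.of_card (G := zpowers a) (p := r) (n := j)
      (by rw [Nat.card_zpowers, hj])).exists_le_sylow
    obtain ⟨R₀⟩ := (inferInstance : Nonempty (Sylow r (cent g₀)))
    obtain ⟨T, hT⟩ := (R₀.2.map (cent g₀).subtype).exists_le_sylow
    have hTg : (T : Subgroup G) ≤ cent g₀ := by
      have h2 : ((R₀ : Subgroup (cent g₀)).map (cent g₀).subtype) = (T : Subgroup G) := by
        refine eq_of_le_of_card_ge hT ?_
        rw [Sylow.card_eq_multiplicity, card_map_of_injective (cent g₀).subtype_injective,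
          Sylow.card_eq_multiplicity, ← card_mul_index (cent g₀)]
        refine Nat.pow_le_pow_right hr.pos (le_of_eq ?_)
        rw [Nat.factorization_mul Nat.card_pos.ne' index_ne_zero_of_finite, Finsupp.add_apply,
          Nat.factorization_eq_zero_of_not_dvd (show ¬ r ∣ (cent g₀).index from fun h => hrm (hg₀ ▸ h)),
          add_zero]
      exact h2 ▸ map_subtype_le _
    obtain ⟨k, hk⟩ := MulAction.exists_smul_eq G T R
    set g := k * g₀ * k⁻¹ with hgdef
    have hg : cl g = m := by rw [hgdef, cl_conj, hg₀]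
    have hRg : ∀ y ∈ (R : Subgroup G), y ∈ cent g := by
      intro y hy
      rw [← hk, Sylow.coe_subgroup_smul] at hy
      obtain ⟨t, ht, rfl⟩ := hy
      rw [hgdef, cent_conj_mem]
      show k⁻¹ * (k * t * k⁻¹) * k ∈ cent g₀
      rw [show k⁻¹ * (k * t * k⁻¹) * k = t by group]
      exact hTg ht
    have hag : g ∈ cent a := cent_comm.1 (hRg a (hR (mem_zpowers a)))
    obtain ⟨c, d, hc, hd, he', hcd, hco, hrc, hrd⟩ := exists_split r g
    by_cases hdz : d ∈ center G
    · have hgc : cent g = cent c := by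
        rw [he', cent_mul_coprime hcd hco]
        exact inf_eq_left.2 fun v _ => cent_comm.2 (center_le_cent v hdz)
      have hcx : c ∈ cent x := heq ▸ (zpowers_le.2 hag) hc
      have hxc : (orderOf x).Coprime (orderOf c) := Nat.coprime_of_dvd fun q hq h2 h3 => by
        exact Nat.not_coprime_of_dvd_of_dvd hq.one_lt h2 (hrc q hq h3) hxr
      have e2 := cent_mul_coprime (mem_cent.1 hcx) hxc
      have h2 := (hn.of_ge hx (b := x * c) (e2 ▸ inf_le_left)).1
      have hcg : cl c = m := by rw [← hg, cl, cl, hgc]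
      have hcz : c ∉ center G := fun h => hm1 (hcg ▸ cl_eq_one.2 h)
      exact hmn (hcg ▸ (hn.of_le hx hcz (by rw [← h2, e2]; exact inf_le_right)).2)
    · have hda : d ∈ cent a := (zpowers_le.2 hag) hd
      have had : (orderOf a).Coprime (orderOf d) := by rw [hj]; exact hrd.symm.pow_left j
      have e2 := cent_mul_coprime (mem_cent.1 hda) had
      have h2 := (hn.of_ge ha (b := a * d) (e2 ▸ inf_le_left)).1
      have h3 := (hn.of_le ha hdz (by rw [← h2, e2]; exact inf_le_right)).2
      exact hnm (Or.inl (h3 ▸ hg ▸ cl_dvd (cent_le_of_mem_zpowers hd)))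
  rw [← co_mul_cl x, hx, Nat.factorization_mul (co_pos x).ne' (by
    have := hn.ne_one; have := hx ▸ cl_pos x; omega), Finsupp.add_apply,
    Nat.factorization_eq_zero_of_not_dvd key, zero_add]

end Cfsg.Agent.PSLSizes
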