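import Cfsg.Agent.Lib.PSL2.ClassSizes.Index
import Cfsg.Agent.S4212

/-!
# `G / Z(G)` for class sizes of `PSL(2, q)`: the order and the `p`-elements

`|G : Z(G)| = q u`, the non-trivial `p`-elements of the quotient have centralisers of order `q`, and there are
`δ` classes of them.
-/

set_option autoImplicit false
set_option linter.style.haveILetI false

namespace Cfsg.Agent.PSLSizes

open Subgroup Cfsg.Agent.ClassSize.CoprimeTop

universe w₀

variable {G : Type w₀} [Group G] [Finite G]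

/-- The class sizes used; `δ` is `gcd (2, q - 1)`. -/
structure Hyp (G : Type w₀) [Group G] (p k δ u v w : ℕ) : Prop where
  hp : p.Prime
  four_le : 4 ≤ p ^ k
  hδ : δ = 1 ∨ δ = 2
  hu : δ * u + 1 = (p ^ k) ^ 2
  isoU : Isolated G u
  isoV : Isolated G v
  hw : ∃ g : G, cl g = w
  w_ne : w ≠ 1
  w_ne_u : w ≠ u
  v_ne_u : v ≠ u
  hgcd : ∀ r : ℕ, r.Prime → r ≠ p → r ∣ v → ¬ r ∣ w
  hv : v.factorization p = k
  cases : ∀ g : G, cl g = 1 ∨ cl g = u ∨ p ^ k ∣ cl g

/-- A set closed under conjugation whose classes have size divisible by `m`. -/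
theorem dvd_card_of_class_dvd {H : Type*} [Group H] [Fintype H] {s : Finset H} {m : ℕ}
    (hs : ∀ a ∈ s, ∀ g : H, g * a * g⁻¹ ∈ s)
    (hm : ∀ a ∈ s, m ∣ (centralizer ({a} : Set H)).index) : m ∣ s.card := by
  classical
  rw [Finset.card_eq_sum_card_image ConjClasses.mk]
  refine Finset.dvd_sum fun c hc => ?_
  obtain ⟨a, ha, rfl⟩ := Finset.mem_image.1 hc
  refine (hm a ha).trans (dvd_of_eq ?_)
  rw [← PrimeParts.ncard_carrier, ← Set.ncard_coe_finset]
  congr 1
  ext x
  simp only [Finset.coe_filter, Set.mem_setOf_eq, ConjClasses.mem_carrier_iff_mk_eq]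
  refine ⟨fun h => ⟨?_, h⟩, fun h => h.2⟩
  obtain ⟨g, hg⟩ := isConj_iff.1 (ConjClasses.mk_eq_mk_iff_isConj.1 h).symm
  exact hg ▸ hs a ha g

/-- The quotient map. -/
abbrev π (G : Type w₀) [Group G] : G →* G ⧸ center G := QuotientGroup.mk' (center G)

theorem card_map_cent (g : G) : Nat.card ((cent g).map (π G)) = co g := by
  rw [← relIndex_ker, QuotientGroup.ker_mk']
  rfl

theorem map_cent_le (g : G) : (cent g).map (π G) ≤ centralizer ({π G g} : Set (G ⧸ center G)) := by
  rintro _ ⟨c, hc, rfl⟩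
  rw [mem_centralizer_singleton_iff, ← map_mul, ← map_mul, mem_cent.1 hc]

theorem pi_eq_one_iff {g : G} : π G g = 1 ↔ g ∈ center G := QuotientGroup.eq_one_iff g

theorem mem_map_cent_self (g : G) : π G g ∈ (cent g).map (π G) := mem_map_of_mem _ (self_mem_cent g)

/-- An element of prime power order of the quotient lifts to one of `G`. -/
theorem exists_lift {r : ℕ} (hr : r.Prime) {x : G ⧸ center G} {i : ℕ} (hx : x ^ r ^ i = 1) :
    ∃ a : G, π G a = x ∧ ∃ j, orderOf a = r ^ j := by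
  obtain ⟨g, rfl⟩ := QuotientGroup.mk'_surjective (center G) x
  obtain ⟨a, b, -, -, rfl, hab, -, hra, hrb⟩ := exists_split r g
  refine ⟨a, ?_, _, Nat.eq_prime_pow_of_unique_prime_dvd (orderOf_pos a).ne' fun {q} hq hqa =>
    (Nat.prime_dvd_prime_iff_eq hq hr).1 (hra q hq hqa)⟩
  obtain ⟨j, hj⟩ : ∃ j, orderOf a = r ^ j := ⟨_, Nat.eq_prime_pow_of_unique_prime_dvd
    (orderOf_pos a).ne' fun {q} hq hqa => (Nat.prime_dvd_prime_iff_eq hq hr).1 (hra q hq hqa)⟩
  have h1 : (π G b) ^ r ^ (i + j) = 1 := by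
    have hc : Commute (π G a) (π G b) := (show Commute a b from hab).map (π G)
    have h2 : (π G (a * b)) ^ r ^ (i + j) = 1 := by rw [pow_add, pow_mul, hx, one_pow]
    rw [map_mul, hc.mul_pow, ← map_pow (π G) a, pow_add, pow_mul', ← hj, pow_orderOf_eq_one,
      one_pow, map_one, one_mul, hj, ← pow_add] at h2
    exact h2
  have h3 : orderOf (π G b) = 1 := Nat.eq_one_of_dvd_coprimes (hrb.pow_right (i + j))
    (orderOf_map_dvd _ b) (orderOf_dvd_of_pow_eq_one h1)
  rw [map_mul, orderOf_eq_one_iff.1 h3, mul_one]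

namespace Hyp

variable {p k δ u v w : ℕ} (h : Hyp G p k δ u v w)
include h

omit [Finite G] in
theorem k_pos : 0 < k := Nat.pos_of_ne_zero fun hk => by
  have := h.four_le
  rw [hk, pow_zero] at this
  omega

omit [Finite G] in
theorem u_pos : 0 < u := Nat.pos_of_ne_zero fun hu => by
  have := h.hu
  have := Nat.mul_le_mul h.four_le h.four_le
  rw [hu, pow_two] at *
  omega

omit [Finite G] in
theorem not_dvd_u : ¬ p ∣ u := fun hd => by
  have h1 : p ∣ (p ^ k) ^ 2 := dvd_pow (dvd_pow_self p h.k_pos.ne') two_ne_zero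
  rw [← h.hu] at h1
  exact h.hp.not_dvd_one ((Nat.dvd_add_right (dvd_mul_of_dvd_right hd δ)).1 h1)

/-- `|G : Z(G)| = q u`. -/
theorem index_center : (center G).index = p ^ k * u := by
  refine Nat.eq_of_factorization_eq index_ne_zero_of_finite
    (Nat.mul_ne_zero (pow_ne_zero _ h.hp.ne_zero) h.u_pos.ne') fun r => ?_
  by_cases hr : r.Prime
  swap
  · simp [Nat.factorization_eq_zero_of_not_prime, hr]
  rw [Nat.factorization_mul (pow_ne_zero _ h.hp.ne_zero) h.u_pos.ne', Finsupp.add_apply,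
    Nat.Prime.factorization_pow h.hp]
  by_cases hrp : r = p
  · subst hrp
    rw [Finsupp.single_eq_same, Nat.factorization_eq_zero_of_not_dvd h.not_dvd_u, add_zero,
      factorization_index h.hp h.isoV h.isoU.mem h.isoU.ne_one h.v_ne_u.symm h.not_dvd_u, h.hv]
  · rw [Finsupp.single_eq_of_ne hrp, zero_add]
    by_cases hrv : r ∣ v
    · exact factorization_index hr h.isoU h.hw h.w_ne h.w_ne_u (h.hgcd r hr hrp hrv)
    · exact factorization_index hr h.isoU h.isoV.mem h.isoV.ne_one h.v_ne_u hrv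

theorem card_quotient : Nat.card (G ⧸ center G) = p ^ k * u := by
  rw [← h.index_center, index]

/-- Non-central `p`-elements have class size `u`. -/
theorem cl_eq_u {a : G} {j : ℕ} (ha : orderOf a = p ^ j) (haz : a ∉ center G) : cl a = u := by
  rcases h.cases a with e | e | e
  · exact absurd (cl_eq_one.1 e) haz
  · exact e
  · exfalso
    obtain ⟨c, hc⟩ := e
    have h1 := co_mul_cl a
    rw [hc, h.index_center, mul_comm (co a), mul_assoc] at h1
    have h2 : c * co a = u := Nat.eq_of_mul_eq_mul_left (Nat.pow_pos h.hp.pos) h1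
    refine h.not_dvd_u (h2 ▸ dvd_mul_of_dvd_right ?_ c)
    rw [← card_map_cent]
    have h3 : orderOf (π G a) ∣ p ^ j := ha ▸ orderOf_map_dvd _ a
    obtain ⟨i, -, hi⟩ := (Nat.dvd_prime_pow h.hp).1 h3
    refine dvd_trans ?_ (orderOf_dvd_natCard _ (mem_map_cent_self a))
    rw [hi]
    refine dvd_pow_self p fun hi0 => haz (pi_eq_one_iff.1 (orderOf_eq_one_iff.1 ?_))
    rw [hi, hi0, pow_zero]

theorem co_eq_q {a : G} (ha : cl a = u) : co a = p ^ k :=
  Nat.eq_of_mul_eq_mul_right h.u_pos (by have := co_mul_cl a; rwa [h.index_center, ha] at this)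

/-- A non-central `p`-element keeps its centraliser in the quotient. -/
theorem centralizer_pi {a : G} {j : ℕ} (ha : orderOf a = p ^ j) (haz : a ∉ center G) :
    centralizer ({π G a} : Set (G ⧸ center G)) = (cent a).map (π G) := by
  haveI := Fact.mk h.hp
  refine le_antisymm (fun y hy => ?_) (map_cent_le a)
  obtain ⟨g, rfl⟩ := QuotientGroup.mk'_surjective (center G) y
  set D := (centralizer ({π G a} : Set (G ⧸ center G))).comap (π G) with hD
  have hmem : ∀ d : D, (d : G) * a * (d : G)⁻¹ * a⁻¹ ∈ center G := fun d => by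
    have h1 : π G d * π G a = π G a * π G d := mem_centralizer_singleton_iff.1 (mem_comap.1 d.2)
    rw [← pi_eq_one_iff, map_mul, map_mul, map_mul, map_inv, map_inv, h1]
    group
  let f : D →* center G := MonoidHom.mk' (fun d => ⟨(d : G) * a * (d : G)⁻¹ * a⁻¹, hmem d⟩)
    fun c d => Subtype.ext (by
      have h1 := mem_center_iff.1 (hmem d)
      show (c : G) * d * a * ((c : G) * d)⁻¹ * a⁻¹ = _ * _
      calc (c : G) * d * a * ((c : G) * d)⁻¹ * a⁻¹
          = (c : G) * ((d : G) * a * (d : G)⁻¹ * a⁻¹) * a * (c : G)⁻¹ * a⁻¹ := by group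
        _ = ((d : G) * a * (d : G)⁻¹ * a⁻¹) * (c : G) * a * (c : G)⁻¹ * a⁻¹ := by rw [h1 c]
        _ = ((d : G) * a * (d : G)⁻¹ * a⁻¹) * ((c : G) * a * (c : G)⁻¹ * a⁻¹) := by group
        _ = _ := (mem_center_iff.1 (hmem d) _).symm)
  have hker : f.ker = (cent a).subgroupOf D := by
    ext d
    rw [MonoidHom.mem_ker, mem_subgroupOf, mem_cent, Subtype.ext_iff]
    show (d : G) * a * (d : G)⁻¹ * a⁻¹ = 1 ↔ _
    rw [mul_inv_eq_one, mul_inv_eq_iff_eq_mul, eq_comm]
  have hpow : IsPGroup p f.range := by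
    rintro ⟨_, d, rfl⟩
    refine ⟨j, Subtype.ext (Subtype.ext ?_)⟩
    show ((d : G) * a * (d : G)⁻¹ * a⁻¹) ^ p ^ j = 1
    have hc : Commute ((d : G) * a * (d : G)⁻¹ * a⁻¹) a := (mem_center_iff.1 (hmem d) a).symm
    have e : ((d : G) * a * (d : G)⁻¹) = ((d : G) * a * (d : G)⁻¹ * a⁻¹) * a := by group
    have e2 := congrArg (· ^ p ^ j) e
    simp only [conj_pow, hc.mul_pow, ← ha, pow_orderOf_eq_one, mul_one, mul_inv_cancel] at e2
    rw [← ha]; exact e2.symm
  obtain ⟨i, hi⟩ := IsPGroup.iff_card.1 hpow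
  have hle : cent a ≤ D := fun c hc => mem_comap.2 (map_cent_le a (mem_map_of_mem _ hc))
  have hdvd : p ^ i ∣ u := by
    rw [← hi, ← index_ker, hker, ← h.cl_eq_u ha haz, cl, ← relIndex_mul_index hle]
    exact dvd_mul_right _ _
  rcases Nat.eq_zero_or_pos i with rfl | hi0
  · rw [pow_zero] at hi
    refine mem_map_of_mem _ ?_
    have hg : f ⟨g, mem_comap.2 hy⟩ = 1 := by
      have := f.mem_range.2 ⟨(⟨g, mem_comap.2 hy⟩ : D), rfl⟩
      rw [card_eq_one.1 hi] at this
      exact mem_bot.1 this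
    exact (hker ▸ MonoidHom.mem_ker.2 hg :)
  · exact absurd ((dvd_pow_self p hi0.ne').trans hdvd) h.not_dvd_u

/-- Centralisers of non-trivial `p`-elements of the quotient have order `q`. -/
theorem card_centralizer {x : G ⧸ center G} (hx : x ≠ 1) {i : ℕ} (hi : x ^ p ^ i = 1) :
    Nat.card (centralizer ({x} : Set (G ⧸ center G))) = p ^ k := by
  obtain ⟨a, rfl, j, ha⟩ := exists_lift h.hp hi
  have haz : a ∉ center G := fun e => hx (pi_eq_one_iff.2 e)
  rw [h.centralizer_pi ha haz, card_map_cent, h.co_eq_q (h.cl_eq_u ha haz)]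

theorem pow_q_eq_one {x : G ⧸ center G} {i : ℕ} (hi : x ^ p ^ i = 1) : x ^ p ^ k = 1 := by
  rcases eq_or_ne x 1 with rfl | hx
  · rw [one_pow]
  · rw [← h.card_centralizer hx hi]
    exact orderOf_dvd_iff_pow_eq_one.1 (orderOf_dvd_natCard _ (mem_centralizer_singleton_iff.2 rfl))

theorem index_centralizer {x : G ⧸ center G} (hx : x ≠ 1) (hq : x ^ p ^ k = 1) :
    (centralizer ({x} : Set (G ⧸ center G))).index = u := by
  have h1 := card_mul_index (centralizer ({x} : Set (G ⧸ center G)))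
  rw [h.card_centralizer hx hq, h.card_quotient] at h1
  exact Nat.eq_of_mul_eq_mul_left (Nat.pow_pos h.hp.pos) h1

theorem card_pElements_classes [Fintype (G ⧸ center G)] [DecidableEq (G ⧸ center G)] :
    ((Finset.univ.filter fun x : G ⧸ center G => x ^ p ^ k = 1).erase 1).card = δ * u := by
  haveI := Fact.mk h.hp
  set S := Finset.univ.filter fun x : G ⧸ center G => x ^ p ^ k = 1 with hS
  have h1S : (1 : G ⧸ center G) ∈ S := Finset.mem_filter.2 ⟨Finset.mem_univ _, one_pow _⟩
  obtain ⟨c, hc⟩ : u ∣ (S.erase 1).card := by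
    refine dvd_card_of_class_dvd (fun a ha g => ?_) fun a ha => ?_
    · obtain ⟨ha1, -, ha2⟩ := Finset.mem_erase.1 ha |>.imp_right Finset.mem_filter.1
      refine Finset.mem_erase.2 ⟨fun e => ha1 ?_, Finset.mem_filter.2 ⟨Finset.mem_univ _, ?_⟩⟩
      · simpa using e
      · rw [conj_pow, ha2]; group
    · obtain ⟨ha1, -, ha2⟩ := Finset.mem_erase.1 ha |>.imp_right Finset.mem_filter.1
      rw [h.index_centralizer ha1 ha2]
  have hadd := Finset.card_erase_add_one h1S
  have hdiv : p ^ k ∣ S.card := by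
    have := S4212.one_roots_dvd (G := G ⧸ center G) (p := p) k
    have hk : k ≤ (Nat.card (G ⧸ center G)).factorization p := by
      rw [← h.hp.pow_dvd_iff_le_factorization Nat.card_pos.ne', h.card_quotient]
      exact dvd_mul_right _ _
    rw [min_eq_left hk, Nat.card_eq_fintype_card, Fintype.card_subtype] at this
    exact this
  have hle : S.card ≤ p ^ k * u := by
    rw [← h.card_quotient, Nat.card_eq_fintype_card]
    exact Finset.card_le_univ _
  rw [← hadd, hc] at hdiv hle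
  have hu := h.hu
  have hq := h.four_le
  have hu0 := h.u_pos
  -- `c ≡ δ` modulo `q`
  have hcop : IsCoprime ((p : ℤ) ^ k) (u : ℤ) := by
    exact_mod_cast (Nat.isCoprime_iff_coprime.2 ((h.hp.coprime_iff_not_dvd.2 h.not_dvd_u).pow_left k))
  have hdvd : ((p : ℤ) ^ k) ∣ ((c : ℤ) - δ) := by
    refine hcop.dvd_of_dvd_mul_right ?_
    have h1 : ((p : ℤ) ^ k) ∣ ((u * c + 1 : ℕ) : ℤ) := by exact_mod_cast Int.natCast_dvd_natCast.2 hdiv
    have h2 : ((p : ℤ) ^ k) ∣ ((δ * u + 1 : ℕ) : ℤ) := by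
      rw [hu]; push_cast; exact dvd_pow_self _ two_ne_zero
    have h3 := dvd_sub h1 h2
    push_cast at h3
    convert h3 using 1
    ring
  obtain ⟨e, he⟩ := hdvd
  have hcq : c < p ^ k := by nlinarith
  have hδ := h.hδ
  have he0 : e = 0 := by
    rcases lt_trichotomy e 0 with he' | he' | he'
    · have : ((p : ℤ) ^ k) * e ≤ -((p : ℤ) ^ k) := by
        have : (0 : ℤ) < (p : ℤ) ^ k := by exact_mod_cast Nat.pow_pos h.hp.pos
        nlinarith
      have h4 : (4 : ℤ) ≤ (p : ℤ) ^ k := by exact_mod_cast hq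
      omega
    · exact he'
    · have : ((p : ℤ) ^ k) ≤ ((p : ℤ) ^ k) * e := by
        have : (0 : ℤ) < (p : ℤ) ^ k := by exact_mod_cast Nat.pow_pos h.hp.pos
        nlinarith
      have h4 : (c : ℤ) < (p : ℤ) ^ k := by exact_mod_cast hcq
      omega
  rw [he0, mul_zero, sub_eq_zero] at he
  rw [hc, show c = δ by exact_mod_cast he, mul_comm]

end Hyp

end Cfsg.Agent.PSLSizes
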