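import Cfsg.Agent.Lib.PSL2.ClassSizes.Ident
import Cfsg.Agent.Lib.PSL2.Classes

/-!
# The central extension splits

`Z(G) ∩ G' = 1`: the Sylow subgroups of `G` are abelian for odd `r`, and for `r = 2`, `q` odd, a non-central
element of the centre of a Sylow `2`-subgroup rules out `SL(2, q)`.
-/

set_option autoImplicit false
set_option linter.style.haveILetI false

namespace Cfsg.Agent.PSLSizes

open Subgroup Cfsg.Agent.ClassSize.CoprimeTop
open scoped MatrixGroups commutatorElement

universe w₀

variable {G : Type w₀} [Group G] [Finite G] {F : Type*} [Field F] [Fintype F]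

omit [Finite G] in
/-- The commutator subgroup of an abelian-by-two group consists of the `[c, b]`. -/
theorem exists_commutator {T : Type*} [Group T] (A : Subgroup T) [A.Normal]
    (hA : ∀ x ∈ A, ∀ y ∈ A, x * y = y * x) {b : T} (hT : ∀ x : T, x ∈ A ∨ x * b⁻¹ ∈ A)
    {e : T} (he : e ∈ commutator T) : ∃ c ∈ A, c * b * c⁻¹ * b⁻¹ = e := by
  have hb : ∀ x ∈ A, b * x * b⁻¹ ∈ A := fun x hx => ‹A.Normal›.conj_mem x hx b
  let ψ : A →* A := MonoidHom.mk' (fun c => ⟨(c : T) * (b * (c : T)⁻¹ * b⁻¹),
      mul_mem c.2 (hb _ (inv_mem c.2))⟩) fun c c' => Subtype.ext (by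
    show (c : T) * c' * (b * ((c : T) * c')⁻¹ * b⁻¹) = _ * _
    calc (c : T) * c' * (b * ((c : T) * c')⁻¹ * b⁻¹)
        = (c : T) * ((c' * (b * (c' : T)⁻¹ * b⁻¹)) * (b * (c : T)⁻¹ * b⁻¹)) := by group
      _ = (c : T) * ((b * (c : T)⁻¹ * b⁻¹) * (c' * (b * (c' : T)⁻¹ * b⁻¹))) := by
          rw [hA _ (mul_mem c'.2 (hb _ (inv_mem c'.2))) _ (hb _ (inv_mem c.2))]
      _ = _ := (mul_assoc _ _ _).symm)
  set L := ψ.range.map A.subtype with hL
  have hLA : L ≤ A := map_subtype_le _
  have hmem : ∀ {z}, z ∈ L ↔ ∃ c ∈ A, c * b * c⁻¹ * b⁻¹ = z := fun {z} => by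
    constructor
    · rintro ⟨_, ⟨c, rfl⟩, rfl⟩
      exact ⟨c, c.2, by show _ = (c : T) * (b * (c : T)⁻¹ * b⁻¹); group⟩
    · rintro ⟨c, hc, rfl⟩
      exact ⟨ψ ⟨c, hc⟩, ⟨_, rfl⟩, by show c * (b * c⁻¹ * b⁻¹) = _; group⟩
  haveI : L.Normal := ⟨fun z hz x => by
    have hconjA : ∀ y ∈ A, y * z * y⁻¹ = z := fun y hy => by
      rw [hA y hy z (hLA hz), mul_inv_cancel_right]
    rcases hT x with hx | hx
    · rw [hconjA x hx]; exact hz
    · rw [show x * z * x⁻¹ = (x * b⁻¹) * (b * z * b⁻¹) * (x * b⁻¹)⁻¹ by group,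
        hA _ hx _ (hb z (hLA hz)), mul_inv_cancel_right]
      obtain ⟨c, hc, rfl⟩ := hmem.1 hz
      exact hmem.2 ⟨b * c * b⁻¹, hb c hc, by group⟩⟩
  suffices commutator T ≤ L from hmem.1 (this he)
  rw [← Subgroup.Normal.quotient_commutative_iff_commutator_le]
  have hgen : ∀ c ∈ A, (c : T ⧸ L) * (b : T ⧸ L) = (b : T ⧸ L) * (c : T ⧸ L) := fun c hc => by
    rw [← QuotientGroup.mk_mul, ← QuotientGroup.mk_mul, eq_comm, QuotientGroup.eq_iff_div_mem, div_eq_mul_inv]
    have h1 := inv_mem (hmem.2 ⟨c, hc, rfl⟩)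
    rw [show b * c * (c * b)⁻¹ = (c * b * c⁻¹ * b⁻¹)⁻¹ by group]
    exact h1
  have hsplit : ∀ x : T, ∃ c ∈ A, (x : T ⧸ L) = c ∨ (x : T ⧸ L) = (c : T ⧸ L) * (b : T ⧸ L) := by
    intro x
    rcases hT x with hx | hx
    · exact ⟨x, hx, Or.inl rfl⟩
    · exact ⟨x * b⁻¹, hx, Or.inr (by rw [← QuotientGroup.mk_mul, inv_mul_cancel_right])⟩
  refine ⟨⟨fun x y => ?_⟩⟩
  obtain ⟨x, rfl⟩ := QuotientGroup.mk_surjective x
  obtain ⟨y, rfl⟩ := QuotientGroup.mk_surjective y
  obtain ⟨c, hc, ex⟩ := hsplit x
  obtain ⟨c', hc', ey⟩ := hsplit y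
  have h12 : (c : T ⧸ L) * c' = c' * c := by
    rw [← QuotientGroup.mk_mul, ← QuotientGroup.mk_mul, hA c hc c' hc']
  rcases ex with ex | ex <;> rcases ey with ey | ey <;> rw [ex, ey]
  · exact h12
  · exact (Commute.mul_right (h12 : Commute _ _) (hgen c hc)).eq
  · exact (Commute.mul_left (h12 : Commute _ _) (hgen c' hc').symm).eq
  · exact ((Commute.mul_right (h12 : Commute _ _) (hgen c hc)).mul_left
      (Commute.mul_right (hgen c' hc').symm (Commute.refl _))).eq

/-- A central element of a Sylow subgroup lying in `G'` lies in the derived group of the Sylow subgroup. -/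
theorem mem_commutator_sylow {p : ℕ} [Fact p.Prime] (P : Sylow p G) {e : G} (he : orderOf e = p)
    (hc : e ∈ center G) (hm : e ∈ commutator G) :
    ∃ h : e ∈ (P : Subgroup G), (⟨e, h⟩ : (P : Subgroup G)) ∈ commutator (P : Subgroup G) := by
  have hp : IsPGroup p (zpowers e) := IsPGroup.of_card (n := 1) (by rw [Nat.card_zpowers, he, pow_one])
  have heP : e ∈ (P : Subgroup G) := by
    have hsup := P.2.to_sup_of_normal_left' hp (by
      rw [zpowers_le, mem_normalizer_iff]
      intro x
      rw [← mem_center_iff.1 hc x, mul_inv_cancel_right])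
    exact (P.3 hsup le_sup_left).le (mem_sup_right (mem_zpowers e))
  refine ⟨heP, ?_⟩
  have key : ∀ (k : ℕ) (g : G), g⁻¹ * e ^ k * g ∈ (P : Subgroup G) → g⁻¹ * e ^ k * g = e ^ k :=
    fun k g _ => by
      rw [mul_assoc, ← mem_center_iff.1 (pow_mem hc k) g, inv_mul_cancel_left]
  let ψ : (P : Subgroup G) →* Abelianization (P : Subgroup G) := Abelianization.of
  have h1 : MonoidHom.transfer ψ e = 1 := Abelianization.commutator_subset_ker _ hm
  rw [MonoidHom.transfer_eq_pow _ e key] at h1
  have h3 := (QuotientGroup.eq_one_iff _).1 h1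
  set i := (P : Subgroup G).index
  have h4 : (⟨e, heP⟩ : (P : Subgroup G)) ^ i ∈ commutator (P : Subgroup G) := by
    convert h3 using 1
    exact Subtype.ext (SubgroupClass.coe_pow _ _)
  have hcop : (orderOf (⟨e, heP⟩ : (P : Subgroup G))).Coprime i := by
    rw [orderOf_mk, he]
    exact (Fact.out : p.Prime).coprime_iff_not_dvd.2 P.not_dvd_index
  obtain ⟨m, hm'⟩ := exists_pow_eq_self_of_coprime hcop.symm
  exact hm' ▸ pow_mem h4 m

/-- No odd element of `PSL(2, q)` centralises two commuting involutions. -/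
theorem eq_one_of_commute_involutions (h2 : (2 : F) ≠ 0) {x y b : PSL(2, F)} (hx : orderOf x = 2)
    (hy : orderOf y = 2) (hxy : x ≠ y) (hc : x * y = y * x) (hbx : b * x = x * b) (hby : b * y = y * b)
    (hb : Odd (orderOf b)) : b = 1 := by
  obtain ⟨n, -, ⟨ψ⟩⟩ := PSL2.dihedral_centralizer_involution h2 hx
  set x' : centralizer ({x} : Set PSL(2, F)) := ⟨x, mem_centralizer_singleton_iff.2 rfl⟩
  set y' : centralizer ({x} : Set PSL(2, F)) := ⟨y, mem_centralizer_singleton_iff.2 hc.symm⟩
  set b' : centralizer ({x} : Set PSL(2, F)) := ⟨b, mem_centralizer_singleton_iff.2 hbx⟩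
  have hxc : ∀ z, ψ x' * z = z * ψ x' := fun z => by
    obtain ⟨z, rfl⟩ := ψ.surjective z
    rw [← map_mul, ← map_mul]
    exact congrArg ψ (Subtype.ext (mem_centralizer_singleton_iff.1 z.2).symm)
  have hbo : Odd (orderOf (ψ b')) := by rwa [MulEquiv.orderOf_eq, orderOf_mk]
  have hb1 : ψ b' = 1 := by
    rcases hz : ψ b' with i | i
    · have hyb : ψ b' * ψ y' = ψ y' * ψ b' := by
        rw [← map_mul, ← map_mul]; exact congrArg ψ (Subtype.ext hby)
      rcases hw : ψ y' with j | j
      · -- two rotations of order two coincide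
        rcases hv : ψ x' with l | l
        · exfalso
          refine hxy (congrArg Subtype.val (ψ.injective ?_ : x' = y'))
          have ho : orderOf (DihedralGroup.r l : DihedralGroup n) = 2 := by
            rw [← hv, MulEquiv.orderOf_eq, orderOf_mk, hx]
          have ho' : orderOf (DihedralGroup.r j : DihedralGroup n) = 2 := by
            rw [← hw, MulEquiv.orderOf_eq, orderOf_mk, hy]
          have hl : l + l = 0 := by
            have := pow_orderOf_eq_one (DihedralGroup.r l : DihedralGroup n)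
            rw [ho, pow_two, DihedralGroup.r_mul_r, DihedralGroup.one_def] at this
            exact DihedralGroup.r.inj this
          have hj : j + j = 0 := by
            have := pow_orderOf_eq_one (DihedralGroup.r j : DihedralGroup n)
            rw [ho', pow_two, DihedralGroup.r_mul_r, DihedralGroup.one_def] at this
            exact DihedralGroup.r.inj this
          have hl0 : l ≠ 0 := fun e => by simp [e, DihedralGroup.r_zero] at ho
          have hj0 : j ≠ 0 := fun e => by simp [e, DihedralGroup.r_zero] at ho'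
          rw [hv, hw]
          congr 1
          by_contra hlj
          have huniq : ∀ a c : ZMod n, a + a = 0 → c + c = 0 → a ≠ 0 → c ≠ 0 → a = c := by
            intro a c ha hc' ha0 hc0
            have hn : n ≠ 0 := fun hn => by
              subst hn
              exact ha0 ((mul_eq_zero.1 ((two_mul (show ℤ from a)).trans ha)).resolve_left two_ne_zero)
            haveI : NeZero n := ⟨hn⟩
            apply ZMod.val_injective
            have e1 : (a + a).val = 0 := by rw [ha, ZMod.val_zero]
            have e2 : (c + c).val = 0 := by rw [hc', ZMod.val_zero]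
            rw [ZMod.val_add] at e1 e2
            have := ZMod.val_lt a
            have := ZMod.val_lt c
            have := (ZMod.val_eq_zero a).not.2 ha0
            have := (ZMod.val_eq_zero c).not.2 hc0
            rcases Nat.lt_or_ge (a.val + a.val) n with h' | h' <;>
              rcases Nat.lt_or_ge (c.val + c.val) n with h'' | h''
            · rw [Nat.mod_eq_of_lt h'] at e1; omega
            · rw [Nat.mod_eq_of_lt h'] at e1; omega
            · rw [Nat.mod_eq_of_lt h''] at e2; omega
            · rw [Nat.mod_eq_sub_mod h', Nat.mod_eq_of_lt (by omega)] at e1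
              rw [Nat.mod_eq_sub_mod h'', Nat.mod_eq_of_lt (by omega)] at e2
              omega
          exact hlj (huniq l j hl hj hl0 hj0)
        · have := hxc (DihedralGroup.r i)
          rw [hv, DihedralGroup.sr_mul_r, DihedralGroup.r_mul_sr, DihedralGroup.sr.injEq] at this
          have h0 : i + i = 0 := by linear_combination this
          have hdvd : orderOf (ψ b') ∣ 2 := orderOf_dvd_of_pow_eq_one (by
            rw [hz, pow_two, DihedralGroup.r_mul_r, h0, DihedralGroup.r_zero])
          rw [← hz]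
          refine orderOf_eq_one_iff.1 ?_
          rcases (Nat.dvd_prime Nat.prime_two).1 hdvd with e | e
          · exact e
          · rw [e] at hbo; exact absurd hbo (by decide)
      · rw [hz, hw, DihedralGroup.sr_mul_r, DihedralGroup.r_mul_sr, DihedralGroup.sr.injEq] at hyb
        have h0 : i + i = 0 := by linear_combination -hyb
        have hdvd : orderOf (ψ b') ∣ 2 := orderOf_dvd_of_pow_eq_one (by
          rw [hz, pow_two, DihedralGroup.r_mul_r, h0, DihedralGroup.r_zero])
        rw [← hz]
        refine orderOf_eq_one_iff.1 ?_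
        rcases (Nat.dvd_prime Nat.prime_two).1 hdvd with e | e
        · exact e
        · rw [e] at hbo; exact absurd hbo (by decide)
    · rw [hz, DihedralGroup.orderOf_sr] at hbo
      exact absurd hbo (by decide)
  exact congrArg Subtype.val (ψ.injective (hb1.trans ψ.map_one.symm) : b' = 1)

/-- For odd `q` the centre meets `G'` in no element of order `2`. -/
theorem not_two (h2 : (2 : F) ≠ 0) (i : G ⧸ center G ≃* PSL(2, F))
    (hw : ∃ g : G, g ∉ center G ∧ ¬ 2 ∣ cl g) {e : G} (he : orderOf e = 2) (hc : e ∈ center G)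
    (hm : e ∈ commutator G) : False := by
  haveI : Fact (Nat.Prime 2) := ⟨Nat.prime_two⟩
  obtain ⟨g, hg, hgo⟩ := hw
  obtain ⟨T₀⟩ := (inferInstance : Nonempty (Sylow 2 (cent g)))
  obtain ⟨T, hT⟩ := (T₀.2.map (cent g).subtype).exists_le_sylow
  have hTg : (T : Subgroup G) ≤ cent g := by
    have h1 : (T₀ : Subgroup (cent g)).map (cent g).subtype = (T : Subgroup G) := by
      refine eq_of_le_of_card_ge hT ?_
      rw [Sylow.card_eq_multiplicity, card_map_of_injective (cent g).subtype_injective,
        Sylow.card_eq_multiplicity, ← card_mul_index (cent g)]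
      refine Nat.pow_le_pow_right two_pos (le_of_eq ?_)
      rw [Nat.factorization_mul Nat.card_pos.ne' index_ne_zero_of_finite, Finsupp.add_apply,
        Nat.factorization_eq_zero_of_not_dvd (show ¬ 2 ∣ (cent g).index from hgo), add_zero]
    exact h1 ▸ map_subtype_le _
  let f : G →* PSL(2, F) := i.toMonoidHom.comp (π G)
  have hf : Function.Surjective f := i.surjective.comp (QuotientGroup.mk'_surjective _)
  have hf1 : ∀ x, f x = 1 ↔ x ∈ center G := fun x => by
    show i (π G x) = 1 ↔ _
    rw [i.map_eq_one_iff, pi_eq_one_iff]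
  obtain ⟨j, hj, -, ⟨ψ⟩⟩ := PSL2.sylow_two_dihedral h2 (T.mapSurjective hf)
  haveI : NeZero (2 ^ j) := ⟨pow_ne_zero _ two_ne_zero⟩
  let res : (T : Subgroup G) →* ((T.mapSurjective hf : Sylow 2 PSL(2, F)) : Subgroup PSL(2, F)) :=
    (f.comp (T : Subgroup G).subtype).codRestrict _ fun x => by
      rw [Sylow.coe_mapSurjective]; exact mem_map_of_mem f x.2
  let φ : (T : Subgroup G) →* DihedralGroup (2 ^ j) := ψ.toMonoidHom.comp res
  have hφ : Function.Surjective φ := ψ.surjective.comp fun y => by
    obtain ⟨x, hx, hxe⟩ := (show (y : PSL(2, F)) ∈ (T : Subgroup G).map f by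
      rw [← Sylow.coe_mapSurjective hf]; exact y.2)
    exact ⟨⟨x, hx⟩, Subtype.ext hxe⟩
  have hφ1 : ∀ x, φ x = 1 ↔ (x : G) ∈ center G := fun x => by
    show ψ (res x) = 1 ↔ _
    rw [ψ.map_eq_one_iff, Subtype.ext_iff]
    exact hf1 x
  -- a non-central element of the centre of `T`
  obtain ⟨w, hwc, hwZ⟩ : ∃ w : (T : Subgroup G), (∀ x, x * w = w * x) ∧ (w : G) ∉ center G := by
    obtain ⟨a, b, ha, hb, hgab, hab, -, hra, hrb⟩ := exists_split 2 g
    have hcen : ∀ c ∈ zpowers g, ∀ x : (T : Subgroup G), (x : G) * c = c * x := fun c hc' x =>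
      (mem_cent.1 (cent_le_of_mem_zpowers hc' (hTg x.2))).symm
    by_cases haZ : a ∈ center G
    · exfalso
      obtain ⟨x, hx⟩ := hφ (DihedralGroup.r (2 ^ (j - 1) : ℕ))
      obtain ⟨y, hy⟩ := hφ (DihedralGroup.sr 0)
      have hpow : 2 ^ (j - 1) + 2 ^ (j - 1) = 2 ^ j := by
        rw [← two_mul, ← pow_succ', Nat.sub_add_cancel hj]
      have hne : ((2 ^ (j - 1) : ℕ) : ZMod (2 ^ j)) ≠ 0 := by
        rw [Ne, ZMod.natCast_eq_zero_iff]
        intro hd
        have h9 := Nat.le_of_dvd (Nat.two_pow_pos _) hd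
        have := Nat.two_pow_pos (j - 1)
        omega
      have hx2 : orderOf (φ x) = 2 := by
        rw [hx]
        refine orderOf_eq_prime (by rw [pow_two, DihedralGroup.r_mul_r, ← Nat.cast_add, hpow,
          ZMod.natCast_self, DihedralGroup.r_zero]) fun e => hne ?_
        rw [DihedralGroup.one_def] at e
        exact DihedralGroup.r.inj e
      have hy2 : orderOf (φ y) = 2 := by rw [hy]; exact DihedralGroup.orderOf_sr 0
      have hres : ∀ z, orderOf (φ z) = 2 → orderOf (f z) = 2 := fun z hz => by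
        refine Eq.trans ?_ hz
        show orderOf (f z) = orderOf (ψ (res z))
        rw [MulEquiv.orderOf_eq, ← orderOf_coe]
        rfl
      have hcomm : φ x * φ y = φ y * φ x := by
        rw [hx, hy, DihedralGroup.r_mul_sr, DihedralGroup.sr_mul_r, DihedralGroup.sr.injEq, zero_sub,
          zero_add, neg_eq_iff_add_eq_zero, ← Nat.cast_add, hpow, ZMod.natCast_self]
      have hb1 : f b = 1 := by
        refine eq_one_of_commute_involutions h2 (hres x hx2) (hres y hy2) (fun e => ?_) ?_ ?_ ?_ ?_
        · have e' : φ x = φ y := congrArg ψ (Subtype.ext e : res x = res y)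
          rw [hx, hy] at e'
          cases e'
        · have e' : res x * res y = res y * res x := ψ.injective (by rw [map_mul, map_mul]; exact hcomm)
          exact congrArg Subtype.val e'
        · rw [← map_mul, ← map_mul, hcen b hb x]
        · rw [← map_mul, ← map_mul, hcen b hb y]
        · exact Odd.of_dvd_nat (Nat.coprime_two_right.1 hrb) (orderOf_map_dvd f b)
      exact hg (hgab ▸ mul_mem haZ ((hf1 b).1 hb1))
    · obtain ⟨m, hm'⟩ : ∃ m, orderOf a = 2 ^ m := ⟨_, Nat.eq_prime_pow_of_unique_prime_dvd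
        (orderOf_pos a).ne' fun {q} hq hqa => (Nat.prime_dvd_prime_iff_eq hq Nat.prime_two).1 (hra q hq hqa)⟩
      have haT : a ∈ (T : Subgroup G) := by
        have hsup := T.2.to_sup_of_normal_left' (IsPGroup.of_card (G := zpowers a) (n := m)
          (by rw [Nat.card_zpowers, hm'])) (zpowers_le.2 (mem_normalizer_iff.2 fun x =>
            ⟨fun hx => by rw [← hcen a ha ⟨x, hx⟩, mul_inv_cancel_right]; exact hx, fun hx => by
              have h1 := hcen a ha ⟨_, hx⟩
              have h2 : a * x = a * (a * x * a⁻¹) :=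
                (by group : a * x = (a * x * a⁻¹) * a).trans h1
              exact mul_left_cancel h2 ▸ hx⟩))
        exact (T.3 hsup le_sup_left).le (mem_sup_right (mem_zpowers a))
      exact ⟨⟨a, haT⟩, fun x => Subtype.ext (hcen a ha x), haZ⟩
  have hφw : φ w ≠ 1 := fun e => hwZ ((hφ1 w).1 e)
  have hwc' : ∀ z, z * φ w = φ w * z := fun z => by
    obtain ⟨x, rfl⟩ := hφ z
    rw [← map_mul, ← map_mul, hwc]
  -- a cyclic subgroup of index two through `φ w`
  obtain ⟨r₀, β, hr₀, hcyc, hcase⟩ : ∃ r₀ β : DihedralGroup (2 ^ j), φ w ∈ zpowers r₀ ∧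
      (∀ z, z ∈ zpowers r₀ ∨ z * β⁻¹ ∈ zpowers r₀) ∧
      ∀ z ∈ zpowers r₀, z * β = β * z → z ∈ zpowers (φ w) := by
    rcases Nat.lt_or_ge j 2 with hj2 | hj2
    · obtain rfl : j = 1 := by omega
      have hsq : ∀ z : DihedralGroup (2 ^ 1), z * z = 1 := by decide
      have hcard : ∀ z : DihedralGroup (2 ^ 1), z ≠ 1 → (zpowers z).index = 2 := fun z hz => by
        have h1 := card_mul_index (zpowers z)
        rw [Nat.card_zpowers, orderOf_eq_prime (by rw [pow_two, hsq]) hz, DihedralGroup.nat_card] at h1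
        omega
      obtain ⟨β, hβ⟩ : ∃ β, β ∉ zpowers (φ w) := by
        by_contra hall
        push Not at hall
        have h1 := hcard _ hφw
        rw [(eq_top_iff.2 fun z _ => hall z : zpowers (φ w) = ⊤), index_top] at h1
        omega
      refine ⟨φ w, β, mem_zpowers _, fun z => ?_, fun z hz _ => hz⟩
      by_cases hz : z ∈ zpowers (φ w)
      · exact Or.inl hz
      · refine Or.inr ?_
        rw [mul_mem_iff_of_index_two (hcard _ hφw)]
        simp [hz, hβ]
    · refine ⟨DihedralGroup.r 1, DihedralGroup.sr 0, ?_, fun z => ?_, fun z hz hzc => ?_⟩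
      · rcases hv : φ w with l | l
        · exact ⟨l.val, by simp⟩
        · exfalso
          have h1 := hwc' (DihedralGroup.r 1)
          rw [hv, DihedralGroup.r_mul_sr, DihedralGroup.sr_mul_r, DihedralGroup.sr.injEq] at h1
          have h2 : ((2 : ℕ) : ZMod (2 ^ j)) = 0 := by push_cast; linear_combination -h1
          rw [ZMod.natCast_eq_zero_iff] at h2
          have h9 := Nat.le_of_dvd two_pos h2
          have : 2 ^ 2 ≤ 2 ^ j := Nat.pow_le_pow_right two_pos hj2
          omega
      · rcases z with l | l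
        · exact Or.inl ⟨l.val, by simp⟩
        · refine Or.inr ⟨(-l).val, ?_⟩
          simp [DihedralGroup.inv_sr, DihedralGroup.sr_mul_sr]
      · obtain ⟨l, rfl⟩ := hz
        obtain ⟨l₀, hl₀⟩ : ∃ l₀ : ZMod (2 ^ j), φ w = DihedralGroup.r l₀ := by
          rcases hv : φ w with l | l
          · exact ⟨l, rfl⟩
          · exfalso
            have h1 := hwc' (DihedralGroup.r 1)
            rw [hv, DihedralGroup.r_mul_sr, DihedralGroup.sr_mul_r, DihedralGroup.sr.injEq] at h1
            have h2 : ((2 : ℕ) : ZMod (2 ^ j)) = 0 := by push_cast; linear_combination -h1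
            rw [ZMod.natCast_eq_zero_iff] at h2
            have h9 := Nat.le_of_dvd two_pos h2
            have : 2 ^ 2 ≤ 2 ^ j := Nat.pow_le_pow_right two_pos hj2
            omega
        have hwl := hwc' (DihedralGroup.sr 0)
        rw [hl₀, DihedralGroup.r_mul_sr, DihedralGroup.sr_mul_r, DihedralGroup.sr.injEq] at hwl
        simp only [DihedralGroup.r_one_zpow] at hzc ⊢
        rw [DihedralGroup.r_mul_sr, DihedralGroup.sr_mul_r, DihedralGroup.sr.injEq] at hzc
        have hl00 : l₀ ≠ 0 := fun e => hφw (by rw [hl₀, e, DihedralGroup.r_zero])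
        have key : ∀ a : ZMod (2 ^ j), a + a = 0 → a = 0 ∨ a.val = 2 ^ (j - 1) := fun a ha => by
          have hpow : 2 ^ j = 2 * 2 ^ (j - 1) := by
            rw [← pow_succ', Nat.sub_add_cancel hj]
          have e1 : (a + a).val = 0 := by rw [ha, ZMod.val_zero]
          rw [ZMod.val_add] at e1
          have := ZMod.val_lt a
          rcases Nat.lt_or_ge (a.val + a.val) (2 ^ j) with h' | h'
          · rw [Nat.mod_eq_of_lt h'] at e1
            exact Or.inl ((ZMod.val_eq_zero a).1 (by omega))
          · rw [Nat.mod_eq_sub_mod h', Nat.mod_eq_of_lt (by omega)] at e1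
            exact Or.inr (by omega)
        rcases key _ (show ((l : ZMod (2 ^ j))) + l = 0 by linear_combination -hzc) with h0 | h0
        · rw [h0, DihedralGroup.r_zero]; exact one_mem _
        · rw [hl₀, show ((l : ZMod (2 ^ j))) = l₀ from ZMod.val_injective _ (h0.trans
            ((key l₀ (by linear_combination hwl)).resolve_left hl00).symm)]
          exact mem_zpowers _
  set A : Subgroup (T : Subgroup G) := (zpowers r₀).comap φ with hA
  haveI : A.Normal := by
    refine Subgroup.Normal.comap ⟨fun z hz y => ?_⟩ φ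
    have hz' : z ∈ zpowers r₀ := hz
    by_cases hβ : β ∈ zpowers r₀
    · have hall : ∀ x, x ∈ zpowers r₀ := fun x => (hcyc x).elim id fun hx => by
        simpa using mul_mem hx hβ
      exact hall _
    rcases hcyc y with hy | hy
    · exact mul_mem (mul_mem hy hz') (inv_mem hy)
    · rcases hcyc (β * z * β⁻¹) with hbz | hbz
      · rw [show y * z * y⁻¹ = (y * β⁻¹) * (β * z * β⁻¹) * (y * β⁻¹)⁻¹ by group]
        exact mul_mem (mul_mem hy hbz) (inv_mem hy)
      · exfalso
        rcases hcyc (β * β) with hbb | hbb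
        · have h1 := mul_mem (mul_mem hbz hbb) (inv_mem hz')
          rw [show β * z * β⁻¹ * β⁻¹ * (β * β) * z⁻¹ = β by group] at h1
          exact hβ h1
        · exact hβ (by simpa using hbb)
  have hAc : ∀ x ∈ A, ∀ y ∈ A, x * y = y * x := by
    intro x hx y hy
    haveI : IsCyclic ((zpowers r₀ : Subgroup (DihedralGroup (2 ^ j)))) := inferInstance
    let φA : A →* zpowers r₀ := (φ.comp A.subtype).codRestrict _ fun x => x.2
    have h1 := commutative_of_cyclic_center_quotient φA (fun z hz => mem_center_iff.2 fun v => by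
      have hz1 : φ z = 1 := congrArg Subtype.val (MonoidHom.mem_ker.1 hz)
      refine Subtype.ext (Subtype.ext ?_)
      exact mem_center_iff.1 ((hφ1 _).1 hz1) _) ⟨x, hx⟩ ⟨y, hy⟩
    exact congrArg Subtype.val h1
  obtain ⟨b, hb⟩ := hφ β
  obtain ⟨heT, hecomm⟩ := mem_commutator_sylow T he hc hm
  obtain ⟨c, hcA, hce⟩ := exists_commutator A hAc (b := b) (fun x => (hcyc (φ x)).imp id fun hx => by
    show φ (x * b⁻¹) ∈ zpowers r₀
    rw [map_mul, map_inv, hb]; exact hx) hecomm
  have hcb : φ c * β = β * φ c := by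
    have h1 : φ (c * b * c⁻¹ * b⁻¹) = 1 := by rw [hce]; exact (hφ1 _).2 hc
    rw [map_mul, map_mul, map_mul, map_inv, map_inv, hb, mul_inv_eq_one, mul_inv_eq_iff_eq_mul] at h1
    exact h1
  obtain ⟨n, hn⟩ := hcase _ hcA hcb
  have hn' : (c : G) * ((w : G) ^ n)⁻¹ ∈ center G := by
    have := (hφ1 (c * (w ^ n)⁻¹)).1 (by rw [map_mul, map_inv, map_zpow, ← hn, mul_inv_cancel])
    simpa using this
  have hcb' : c * b = b * c := by
    have h1 : c = c * (w ^ n)⁻¹ * w ^ n := by group
    have h2 : Commute (c * (w ^ n)⁻¹) b := Subtype.ext (by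
      simpa using (mem_center_iff.1 hn' (b : G)).symm)
    rw [h1]
    exact (h2.mul_left ((show Commute w b from (hwc b).symm).zpow_left n)).eq
  have : (⟨e, heT⟩ : (T : Subgroup G)) = 1 := by rw [← hce, hcb']; group
  have he1 : e = 1 := congrArg Subtype.val this
  rw [he1, orderOf_one] at he
  omega

/-- **The extension splits.** -/
theorem exists_split_extension {p k δ u v w : ℕ} (h : Hyp G p k δ u v w) [CharP F p]
    (hF : 4 ≤ Fintype.card F) (i : G ⧸ center G ≃* PSL(2, F))
    (hw : (2 : F) ≠ 0 → ∃ g : G, g ∉ center G ∧ ¬ 2 ∣ cl g) :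
    ∃ N A : Subgroup G, N.Normal ∧ A ≤ center G ∧ N ⊓ A = ⊥ ∧ N ⊔ A = ⊤ ∧
      Nonempty (N ≃* PSL(2, F)) := by
  haveI := Fact.mk h.hp
  haveI := PSL2.psl_isSimpleGroup hF
  have hinf : commutator G ⊓ center G = ⊥ := by
    by_contra hne
    haveI : Nontrivial ↥(commutator G ⊓ center G) := (Subgroup.nontrivial_iff_ne_bot _).2 hne
    obtain ⟨r, hr, hrd⟩ := Nat.exists_prime_and_dvd
      (Finite.one_lt_card (α := ↥(commutator G ⊓ center G))).ne'
    haveI := Fact.mk hr
    obtain ⟨⟨e, hem, hec⟩, he⟩ := exists_prime_orderOf_dvd_card' r hrd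
    rw [← orderOf_coe] at he
    obtain ⟨P⟩ := (inferInstance : Nonempty (Sylow r G))
    by_cases hrp : r = p
    · subst hrp
      refine PSL2.AbInv.eq_one_of_central_of_mem_commutator P (fun x hx y hy => ?_) he hec hem
      by_cases hxz : x ∈ center G
      · exact (mem_center_iff.1 hxz y).symm
      obtain ⟨j, hj⟩ : ∃ j, orderOf x = r ^ j := by
        obtain ⟨j, hj⟩ := P.2 ⟨x, hx⟩
        obtain ⟨l, -, hl⟩ := (Nat.dvd_prime_pow hr).1
          (orderOf_dvd_of_pow_eq_one (show x ^ r ^ j = 1 from congrArg Subtype.val hj))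
        exact ⟨l, hl⟩
      have hcomm := h.qhyp.sylow_comm (P.mapSurjective (QuotientGroup.mk'_surjective (center G)))
        (π G x) (mem_map_of_mem _ hx) (π G y) (mem_map_of_mem _ hy)
      have hy' : π G y ∈ centralizer ({π G x} : Set (G ⧸ center G)) :=
        mem_centralizer_singleton_iff.2 hcomm.symm
      rw [h.centralizer_pi hj hxz] at hy'
      obtain ⟨y', hy'c, hyy⟩ := hy'
      have hz : y'⁻¹ * y ∈ center G := (QuotientGroup.eq).1 hyy
      have h1 : y ∈ cent x := by
        have := mul_mem hy'c (center_le_cent x hz)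
        rwa [mul_inv_cancel_left] at this
      exact mem_cent.1 h1
    by_cases hr2 : r = 2 ∧ (2 : F) ≠ 0
    · obtain ⟨rfl, h20⟩ := hr2
      exact not_two h20 i (hw h20) he hec hem
    have hr2' : r ≠ 2 := by
      rintro rfl
      have h20 : (2 : F) = 0 := by by_contra hh; exact hr2 ⟨rfl, hh⟩
      refine hrp ((Nat.prime_dvd_prime_iff_eq h.hp Nat.prime_two).1 ?_).symm
      exact (CharP.cast_eq_zero_iff F p 2).1 (by exact_mod_cast h20)
    refine PSL2.AbInv.eq_one_of_central_of_mem_commutator P (fun x hx y hy => ?_) he hec hem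
    let f : G →* PSL(2, F) := i.toMonoidHom.comp (π G)
    have hf : Function.Surjective f := i.surjective.comp (QuotientGroup.mk'_surjective _)
    haveI hcyc := PSL2.isCyclic_sylow_odd_psl p r hr2' hrp (P.mapSurjective hf)
    let res : (P : Subgroup G) →* ((P.mapSurjective hf : Sylow r PSL(2, F)) : Subgroup PSL(2, F)) :=
      (f.comp (P : Subgroup G).subtype).codRestrict _ fun x => by
        rw [Sylow.coe_mapSurjective]; exact mem_map_of_mem f x.2
    exact congrArg Subtype.val (commutative_of_cyclic_center_quotient res (fun z hz =>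
      mem_center_iff.2 fun v => Subtype.ext (mem_center_iff.1 (show (z : G) ∈ center G by
        have h1 : i (π G z) = 1 := congrArg Subtype.val (MonoidHom.mem_ker.1 hz)
        rwa [i.map_eq_one_iff, pi_eq_one_iff] at h1) v)) ⟨x, hx⟩ ⟨y, hy⟩)
  have hperf : commutator PSL(2, F) = ⊤ := by
    rcases (inferInstance : (commutator PSL(2, F)).Normal).eq_bot_or_eq_top with h0 | h0
    · exfalso
      have hc : ∀ a b : PSL(2, F), a * b = b * a := fun a b => by
        have h9 : a * b * a⁻¹ * b⁻¹ ∈ commutator PSL(2, F) := by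
          rw [← commutatorElement_def]; exact commutator_mem_commutator (mem_top a) (mem_top b)
        rw [h0, mem_bot, mul_inv_eq_one, mul_inv_eq_iff_eq_mul] at h9
        exact h9
      have hq := h.qhyp
      obtain ⟨S⟩ := (inferInstance : Nonempty (Sylow p (G ⧸ center G)))
      have hc' : ∀ a b : G ⧸ center G, a * b = b * a := fun a b =>
        i.injective (by rw [map_mul, map_mul, hc])
      obtain ⟨x, hxS, hx1⟩ := (S : Subgroup (G ⧸ center G)).bot_or_exists_ne_one.resolve_left fun e => by
        have h1 := hq.card_sylow S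
        rw [e, card_bot] at h1
        have := hq.four_le
        omega
      have h1 := hq.card_cent x hx1 (hq.pow_of_mem S hxS)
      rw [(eq_top_iff.2 fun y _ => mem_centralizer_singleton_iff.2 (hc' y x) :
        centralizer ({x} : Set (G ⧸ center G)) = ⊤), card_top, hq.card] at h1
      have h2 : u = 1 := Nat.eq_of_mul_eq_mul_left (Nat.pow_pos h.hp.pos) (h1.trans (mul_one _).symm)
      exact h.isoU.ne_one h2
    · exact h0
  let f : G →* PSL(2, F) := i.toMonoidHom.comp (π G)
  have hf : Function.Surjective f := i.surjective.comp (QuotientGroup.mk'_surjective _)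
  have hmap : (commutator G).map f = ⊤ := by
    rw [_root_.commutator_def, map_commutator, map_top_of_surjective f hf, ← _root_.commutator_def, hperf]
  have hker : ∀ x, f x = 1 ↔ x ∈ center G := fun x => by
    show i (π G x) = 1 ↔ _
    rw [i.map_eq_one_iff, pi_eq_one_iff]
  refine ⟨commutator G, center G, inferInstance, le_rfl, hinf, eq_top_iff.2 fun x _ => ?_,
    ⟨MulEquiv.ofBijective (f.comp (commutator G).subtype) ⟨?_, fun y => ?_⟩⟩⟩
  · obtain ⟨y, hy, hyx⟩ := (show f x ∈ (commutator G).map f by rw [hmap]; exact mem_top _)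
    rw [← mul_inv_cancel_left y x]
    exact mul_mem (mem_sup_left hy) (mem_sup_right ((hker _).1 (by
      rw [map_mul, map_inv, hyx, inv_mul_cancel])))
  · rw [injective_iff_map_eq_one]
    intro x hx
    exact Subtype.ext (mem_bot.1 (hinf ▸ ⟨x.2, (hker x).1 hx⟩ : (x : G) ∈ (⊥ : Subgroup G)))
  · obtain ⟨x, hx, hxy⟩ := (show y ∈ (commutator G).map f by rw [hmap]; exact mem_top _)
    exact ⟨⟨x, hx⟩, hxy⟩

end Cfsg.Agent.PSLSizes
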