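import Cfsg.Agent.Lib.PSL2.ClassSizes.Abelian
import Cfsg.Agent.Lib.PSL2.Recognition
import Cfsg.Agent.Lib.Perm.ZassenhausPSL

/-!
# Odd `q`: the action on the Sylow `p`-subgroups is that of `PSL(2, q)`

The Sylow subgroups are TI, there are `q + 1` of them, and counting fixed points shows that the action is that of a
Zassenhaus group.
-/

set_option autoImplicit false
set_option linter.style.haveILetI false
set_option linter.unusedSectionVars false

namespace Cfsg.Agent.PSLSizes

open Subgroup MulAction Finset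
open scoped MatrixGroups

universe w₀

variable {H : Type w₀} [Group H] [Finite H]

/-- The quotient for odd `q = s + d`. -/
structure QOdd (H : Type w₀) [Group H] (p k u s d : ℕ) : Prop extends QHyp H p k 2 u where
  hp2 : p ≠ 2
  hud : u = 2 * d * s
  hs : Odd s
  hs3 : 3 ≤ s
  hd : Even d
  hor : 2 * d + 1 = p ^ k ∨ 2 * d = p ^ k + 1
  hsd : p ^ k = s + d
  cent_cases : ∀ x : H, x ≠ 1 → x ^ p ^ k ≠ 1 →
    Nat.card (centralizer ({x} : Set H)) = s ∨ Nat.card (centralizer ({x} : Set H)) ∣ 2 * d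

namespace QOdd

variable {p k u s d : ℕ} (h : QOdd H p k u s d) [Fact p.Prime]
include h

theorem eq_of_mem {x : H} (hx : x ≠ 1) {S T : Sylow p H} (hS : x ∈ (S : Subgroup H))
    (hT : x ∈ (T : Subgroup H)) : S = T :=
  Sylow.ext ((h.centralizer_eq_of_central S hS hx fun y hy => h.sylow_comm S y hy x hS).symm.trans
    (h.centralizer_eq_of_central T hT hx fun y hy => h.sylow_comm T y hy x hT))

theorem smul_eq_iff_of_pow {x : H} (hx : x ≠ 1) (hq : x ^ p ^ k = 1) (S : Sylow p H) :
    x • S = S ↔ x ∈ (S : Subgroup H) := by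
  rw [Sylow.smul_eq_iff_mem_normalizer]
  refine ⟨fun hn => ?_, fun hS => le_normalizer hS⟩
  have hz : IsPGroup p (zpowers x) := fun g => ⟨k, by
    obtain ⟨_, i, rfl⟩ := g
    refine Subtype.ext ?_
    show (x ^ i) ^ p ^ k = 1
    rw [← zpow_natCast, ← zpow_mul, mul_comm, zpow_mul, zpow_natCast, hq, one_zpow]⟩
  have hsup := S.2.to_sup_of_normal_left' hz (zpowers_le.2 hn)
  exact (S.3 hsup le_sup_left).le (mem_sup_right (mem_zpowers x))

theorem exists_sylow_mem {x : H} (hx : x ≠ 1) (hq : x ^ p ^ k = 1) :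
    ∃ S : Sylow p H, x ∈ (S : Subgroup H) := by
  obtain ⟨S, hS⟩ := h.exists_sylow_cent hx hq
  exact ⟨S, hS ▸ mem_centralizer_singleton_iff.2 rfl⟩

theorem q_ge : 5 ≤ p ^ k := by
  have := h.hsd
  have := h.hs3
  obtain ⟨i, hi⟩ := h.hd
  have := h.hor
  omega

/-- There are `q + 1` Sylow subgroups. -/
theorem card_points : Nat.card (Sylow p H) = p ^ k + 1 := by
  classical
  haveI := Fintype.ofFinite (Sylow p H)
  have e : Nat.card (Σ S : Sylow p H, {x : (S : Subgroup H) // x ≠ 1}) =
      Nat.card {x : H // x ≠ 1 ∧ x ^ p ^ k = 1} := by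
    refine Nat.card_eq_of_bijective (fun z => ⟨(z.2.1 : H), fun e => z.2.2 (Subtype.ext e),
      h.pow_of_mem z.1 z.2.1.2⟩) ⟨?_, fun x => ?_⟩
    · rintro ⟨S, ⟨x, hxS⟩, hx⟩ ⟨T, ⟨y, hyT⟩, hy⟩ e
      obtain rfl : x = y := congrArg Subtype.val e
      obtain rfl := h.eq_of_mem (fun e => hx (Subtype.ext e)) hxS hyT
      rfl
    · obtain ⟨S, hS⟩ := h.exists_sylow_mem x.2.1 x.2.2
      exact ⟨⟨S, ⟨x.1, hS⟩, fun e => x.2.1 (congrArg Subtype.val e)⟩, rfl⟩
  have hc := h.count
  rw [← e, Nat.card_sigma, Finset.sum_congr rfl (fun (S : Sylow p H) _ => (show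
    Nat.card {x : (S : Subgroup H) // x ≠ 1} = p ^ k - 1 by
      haveI := Fintype.ofFinite (S : Subgroup H)
      rw [Nat.card_eq_fintype_card, Fintype.card_subtype_compl, Fintype.card_subtype_eq,
        ← Nat.card_eq_fintype_card, h.card_sylow S])), Finset.sum_const, smul_eq_mul,
    Finset.card_univ, ← Nat.card_eq_fintype_card] at hc
  obtain ⟨Q, hQ⟩ : ∃ Q, p ^ k = Q + 1 := ⟨p ^ k - 1, by have := h.q_ge; omega⟩
  have hu := h.hu
  rw [hQ] at hu hc ⊢
  rw [Nat.add_sub_cancel] at hc
  have := h.q_ge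
  refine Nat.eq_of_mul_eq_mul_right (show 0 < Q by omega) ?_
  nlinarith

theorem smul_eq_of_mem {S : Sylow p H} {x : H} (hx : x ∈ (S : Subgroup H)) : x • S = S :=
  Sylow.smul_eq_iff_mem_normalizer.2 (le_normalizer hx)

/-- A Sylow subgroup is regular on the other ones. -/
theorem regular (a : Sylow p H) {b c : Sylow p H} (hb : b ≠ a) (hc : c ≠ a) :
    ∃ x ∈ (a : Subgroup H), x • b = c := by
  classical
  have hinj : Function.Injective (fun x : (a : Subgroup H) => (⟨(x : H) • b, fun e => hb (by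
      have := congrArg ((x : H)⁻¹ • ·) e
      simp only [inv_smul_smul] at this
      rw [this, h.smul_eq_of_mem (inv_mem x.2)])⟩ : {T : Sylow p H // T ≠ a})) := by
    intro x y e
    have e' : (x : H) • b = (y : H) • b := congrArg Subtype.val e
    by_contra hne
    have h1 : ((y : H)⁻¹ * x) • b = b := by rw [mul_smul, e', inv_smul_smul]
    have hm : (y : H)⁻¹ * x ∈ (a : Subgroup H) := mul_mem (inv_mem y.2) x.2
    have h2 : (y : H)⁻¹ * x ≠ 1 := fun e => hne (Subtype.ext (inv_mul_eq_one.1 e).symm)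
    exact hb (h.eq_of_mem h2 ((h.smul_eq_iff_of_pow h2 (h.pow_of_mem a hm) b).1 h1) hm)
  haveI := Fintype.ofFinite (Sylow p H)
  obtain ⟨x, hx⟩ := ((Nat.bijective_iff_injective_and_card _).2 ⟨hinj, by
    rw [h.card_sylow a, Nat.card_eq_fintype_card (α := {T : Sylow p H // T ≠ a}),
      Fintype.card_subtype_compl, Fintype.card_subtype_eq, ← Nat.card_eq_fintype_card, h.card_points]
    omega⟩).2 ⟨c, hc⟩
  exact ⟨x, x.2, congrArg Subtype.val hx⟩

theorem two_transitive : IsMultiplyPretransitive H (Sylow p H) 2 := by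
  rw [is_two_pretransitive_iff]
  intro a b c e hab hce
  obtain ⟨g, hg⟩ := MulAction.exists_smul_eq H a c
  obtain ⟨x, hx, hxe⟩ := h.regular c (b := g • b) (c := e)
    (fun e' => hab (smul_left_cancel g (hg.trans e'.symm))) hce.symm
  exact ⟨x * g, by rw [mul_smul, hg, h.smul_eq_of_mem hx], by rw [mul_smul, hxe]⟩

theorem card_stabilizer (a : Sylow p H) :
    (p ^ k + 1) * Nat.card (stabilizer H a) = p ^ k * u := by
  rw [← h.card, ← h.card_points, ← card_mul_index (stabilizer H a), mul_comm, index_stabilizer,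
    Sylow.orbit_eq_top, Set.top_eq_univ, Set.ncard_univ]

theorem card_two_stab {a b : Sylow p H} (hab : a ≠ b) :
    2 * Nat.card ↥(stabilizer H a ⊓ stabilizer H b) + 1 = p ^ k := by
  have hbij : Function.Bijective (fun z : ↥(a : Subgroup H) × ↥(stabilizer H a ⊓ stabilizer H b) =>
      (⟨(z.1 : H) * z.2, mul_mem (h.smul_eq_of_mem z.1.2) z.2.2.1⟩ : stabilizer H a)) := by
    constructor
    · rintro ⟨x, g⟩ ⟨y, j⟩ e
      have e' : (x : H) * g = y * j := congrArg Subtype.val e
      have h1 : ((y : H)⁻¹ * x) = j * (g : H)⁻¹ := by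
        calc (y : H)⁻¹ * x = (y : H)⁻¹ * (x * g) * (g : H)⁻¹ := by group
          _ = j * (g : H)⁻¹ := by rw [e']; group
      have hb : ((y : H)⁻¹ * x) • b = b := by
        rw [h1]; exact (mul_mem j.2 (inv_mem g.2)).2
      have hxy : x = y := by
        by_contra hne
        have h2 : (y : H)⁻¹ * x ≠ 1 := fun e => hne (Subtype.ext (inv_mul_eq_one.1 e).symm)
        have hm : (y : H)⁻¹ * x ∈ (a : Subgroup H) := mul_mem (inv_mem y.2) x.2
        exact hab (h.eq_of_mem h2 hm ((h.smul_eq_iff_of_pow h2 (h.pow_of_mem a hm) b).1 hb))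
      subst hxy
      exact Prod.ext rfl (Subtype.ext (mul_left_cancel e'))
    · intro g
      have hgb : (g : H) • b ≠ a := fun e => hab (smul_left_cancel (g : H) (g.2.trans e.symm))
      obtain ⟨x, hx, hxe⟩ := h.regular a hab.symm hgb
      refine ⟨⟨⟨x, hx⟩, ⟨x⁻¹ * g, ?_, ?_⟩⟩, Subtype.ext (mul_inv_cancel_left x g)⟩
      · show (x⁻¹ * g) • a = a
        rw [mul_smul, g.2, h.smul_eq_of_mem (inv_mem hx)]
      · show (x⁻¹ * g) • b = b
        rw [mul_smul, ← hxe, inv_smul_smul]
  have h1 := h.card_stabilizer a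
  rw [← Nat.card_eq_of_bijective _ hbij, Nat.card_prod, h.card_sylow a] at h1
  have h2 := Nat.eq_of_mul_eq_mul_left (Nat.pow_pos h.hp.pos) (show p ^ k * ((p ^ k + 1) *
    Nat.card ↥(stabilizer H a ⊓ stabilizer H b)) = p ^ k * u by rw [← h1]; ring)
  have hu := h.hu
  obtain ⟨P, hP⟩ : ∃ P, p ^ k = P + 1 := ⟨p ^ k - 1, by have := h.q_ge; omega⟩
  rw [← h2, hP] at hu
  rw [hP]
  have h3 : (P + 2) * (2 * Nat.card ↥(stabilizer H a ⊓ stabilizer H b)) = (P + 2) * P := by linarith
  rw [Nat.eq_of_mul_eq_mul_left (by omega) h3]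

/-- A `p'`-element fixing one point fixes another one. -/
theorem exists_second {g : H} (hq : g ^ p ^ k ≠ 1) {a : Sylow p H} (ha : g • a = a) :
    ∃ b, b ≠ a ∧ g • b = b := by
  classical
  haveI := Fintype.ofFinite (Sylow p H)
  have hn : ∀ x ∈ (a : Subgroup H), g * x * g⁻¹ ∈ (a : Subgroup H) := fun x hx =>
    (mem_normalizer_iff.1 (Sylow.smul_eq_iff_mem_normalizer.1 ha) x).1 hx
  have hf : Function.Bijective (fun x : (a : Subgroup H) => (⟨(x : H) * (g * (x : H)⁻¹ * g⁻¹),
      mul_mem x.2 (hn _ (inv_mem x.2))⟩ : (a : Subgroup H))) := by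
    refine Finite.injective_iff_bijective.1 fun x y e => ?_
    have e' : (x : H) * (g * (x : H)⁻¹ * g⁻¹) = y * (g * (y : H)⁻¹ * g⁻¹) := congrArg Subtype.val e
    by_contra hne
    have hw : (y : H)⁻¹ * x ≠ 1 := fun e => hne (Subtype.ext (inv_mul_eq_one.1 e).symm)
    have hwm : (y : H)⁻¹ * x ∈ (a : Subgroup H) := mul_mem (inv_mem y.2) x.2
    have hc : g ∈ centralizer ({(y : H)⁻¹ * x} : Set H) := mem_centralizer_singleton_iff.2 (by
      calc g * ((y : H)⁻¹ * x)
          = (y : H)⁻¹ * (y * (g * (y : H)⁻¹ * g⁻¹)) * g * x := by group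
        _ = (y : H)⁻¹ * x * g := by rw [← e']; group)
    rw [h.centralizer_eq_of_central a hwm hw fun z hz => h.sylow_comm a z hz _ hwm] at hc
    exact hq (h.pow_of_mem a hc)
  obtain ⟨b, hb⟩ : ∃ b : Sylow p H, b ≠ a := Fintype.exists_ne_of_one_lt_card (by
    rw [← Nat.card_eq_fintype_card, h.card_points]; have := h.q_ge; omega) a
  have hgb : g • b ≠ a := fun e => hb (smul_left_cancel g (e.trans ha.symm))
  obtain ⟨y, hy, hyb⟩ := h.regular a hb hgb
  obtain ⟨⟨x, hx⟩, hxe⟩ := hf.2 ⟨y⁻¹, inv_mem hy⟩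
  have e : x * g * x⁻¹ = y⁻¹ * g := by
    rw [← show x * (g * x⁻¹ * g⁻¹) = y⁻¹ from congrArg Subtype.val hxe]; group
  refine ⟨x⁻¹ • b, fun e' => hb ?_, ?_⟩
  · rw [← smul_inv_smul x b, e', h.smul_eq_of_mem hx]
  · rw [eq_inv_smul_iff, ← mul_smul, ← mul_smul, e, mul_smul, ← hyb, inv_smul_smul]

section Count

variable [Fintype H] [DecidableEq H] [Fintype (Sylow p H)] [DecidableEq (Sylow p H)]

/-- The number of fixed points. -/
def fixNum (p : ℕ) [Fintype (Sylow p H)] [DecidableEq (Sylow p H)] (g : H) : ℕ :=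
  (univ.filter fun T : Sylow p H => g • T = T).card

theorem sum_fix : ∑ g : H, fixNum p g = Nat.card H := by
  have h1 : ∑ g : H, fixNum p g = ∑ T : Sylow p H, Nat.card (stabilizer H T) := by
    simp only [fixNum, Finset.card_filter]
    rw [Finset.sum_comm]
    refine Finset.sum_congr rfl fun T _ => ?_
    rw [Nat.card_eq_fintype_card, ← Finset.card_filter, ← Fintype.card_subtype]
    exact Fintype.card_congr (Equiv.refl _)
  obtain ⟨a⟩ : Nonempty (Sylow p H) := inferInstance
  have hall : ∀ T : Sylow p H, Nat.card (stabilizer H T) = Nat.card (stabilizer H a) := fun T =>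
    Nat.eq_of_mul_eq_mul_left (Nat.succ_pos _) ((h.card_stabilizer T).trans (h.card_stabilizer a).symm)
  rw [h1, Finset.sum_congr rfl fun T _ => hall T, Finset.sum_const, Finset.card_univ, smul_eq_mul,
    ← Nat.card_eq_fintype_card, h.card_points, h.card_stabilizer, h.card]

theorem sum_fix_sq : ∑ g : H, fixNum p g * fixNum p g = 2 * Nat.card H := by
  classical
  have h1 : ∑ g : H, fixNum p g * fixNum p g =
      ∑ T : Sylow p H, ∑ U : Sylow p H, Nat.card ↥(stabilizer H T ⊓ stabilizer H U) := by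
    simp only [fixNum, Finset.card_filter, Finset.sum_mul_sum]
    rw [Finset.sum_comm]
    refine Finset.sum_congr rfl fun T _ => ?_
    rw [Finset.sum_comm]
    refine Finset.sum_congr rfl fun U _ => ?_
    rw [Nat.card_eq_fintype_card, Fintype.card_subtype, Finset.card_filter]
    refine Finset.sum_congr rfl fun g _ => ?_
    by_cases hT : g • T = T <;> by_cases hU : g • U = U <;> simp [hT, hU]
  obtain ⟨Q, hQ⟩ : ∃ Q, p ^ k = Q + 1 := ⟨p ^ k - 1, by have := h.q_ge; omega⟩
  obtain ⟨a⟩ : Nonempty (Sylow p H) := inferInstance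
  have hin : ∀ T : Sylow p H, 2 * ∑ U : Sylow p H, Nat.card ↥(stabilizer H T ⊓ stabilizer H U) =
      2 * Nat.card (stabilizer H T) + p ^ k * Q := fun T => by
    rw [← Finset.add_sum_erase _ _ (mem_univ T), inf_idem, mul_add, Finset.mul_sum,
      Finset.sum_congr rfl (fun U hU => (show 2 * Nat.card ↥(stabilizer H T ⊓ stabilizer H U) = Q by
        have := h.card_two_stab (Finset.mem_erase.1 hU).1.symm; omega)),
      Finset.sum_const, card_erase_of_mem (mem_univ _), Finset.card_univ, ← Nat.card_eq_fintype_card,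
      h.card_points, smul_eq_mul, Nat.add_sub_cancel]
  refine Nat.eq_of_mul_eq_mul_left (show 0 < 2 by omega) ?_
  rw [h1, Finset.mul_sum, Finset.sum_congr rfl fun T _ => hin T, Finset.sum_add_distrib,
    Finset.sum_const, Finset.card_univ, smul_eq_mul, ← Nat.card_eq_fintype_card, h.card_points]
  have h2 : ∑ T : Sylow p H, 2 * Nat.card (stabilizer H T) = 2 * Nat.card H := by
    rw [← Finset.mul_sum]
    congr 1
    rw [← h.sum_fix]
    simp only [fixNum, Finset.card_filter]
    rw [Finset.sum_comm]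
    refine Finset.sum_congr rfl fun T _ => ?_
    rw [Nat.card_eq_fintype_card, Fintype.card_subtype, Finset.card_filter]
    rfl
  rw [h2, h.card]
  have hu := h.hu
  rw [hQ] at hu ⊢
  nlinarith

theorem fixNum_of_pow {x : H} (hx : x ≠ 1) (hq : x ^ p ^ k = 1) : fixNum p x = 1 := by
  obtain ⟨S, hS⟩ := h.exists_sylow_mem hx hq
  rw [fixNum, card_eq_one]
  refine ⟨S, ?_⟩
  ext T
  simp only [mem_filter, mem_univ, true_and, mem_singleton]
  exact ⟨fun e => h.eq_of_mem hx ((h.smul_eq_iff_of_pow hx hq T).1 e) hS,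
    fun e => e ▸ h.smul_eq_of_mem hS⟩

theorem card_pow_filter :
    (univ.filter fun x : H => x ≠ 1 ∧ x ^ p ^ k = 1).card = 2 * u := by
  rw [← h.count, Nat.card_eq_fintype_card, Fintype.card_subtype]

/-- The other elements fix none or two points. -/
theorem fixNum_cases {g : H} (hg : g ^ p ^ k ≠ 1) : fixNum p g = 0 ∨ fixNum p g = 2 := by
  set R := univ.filter fun x : H => x ^ p ^ k ≠ 1 with hR
  have hge : ∀ x ∈ R, fixNum p x ≠ 1 := fun x hx e => by
    obtain ⟨a, ha⟩ := card_eq_one.1 e
    have haf : a ∈ univ.filter fun T : Sylow p H => x • T = T := ha ▸ mem_singleton_self a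
    obtain ⟨b, hb, hxb⟩ := h.exists_second (mem_filter.1 hx).2 (mem_filter.1 haf).2
    have hbf : b ∈ univ.filter fun T : Sylow p H => x • T = T := mem_filter.2 ⟨mem_univ _, hxb⟩
    rw [ha, mem_singleton] at hbf
    exact hb hbf
  let φ : H → ℤ := fun x => (fixNum p x : ℤ) * ((fixNum p x : ℤ) - 2)
  have hnonneg : ∀ x ∈ R, 0 ≤ φ x := fun x hx => by
    have := hge x hx
    simp only [φ]
    rcases Nat.lt_or_ge (fixNum p x) 1 with h0 | h0
    · rw [show fixNum p x = 0 by omega]; simp
    · exact mul_nonneg (by positivity) (by omega)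
  have htot : ∑ x : H, φ x = 0 := by
    have e1 : ((∑ x : H, fixNum p x * fixNum p x : ℕ) : ℤ) = ((2 * Nat.card H : ℕ) : ℤ) := by
      rw [h.sum_fix_sq]
    have e2 : ((∑ x : H, fixNum p x : ℕ) : ℤ) = (Nat.card H : ℤ) := by rw [h.sum_fix]
    push_cast at e1 e2
    simp only [φ, mul_sub, Finset.sum_sub_distrib, ← Finset.sum_mul]
    linarith
  have h1 : fixNum p (1 : H) = p ^ k + 1 := by
    rw [fixNum, ← h.card_points, Nat.card_eq_fintype_card, ← Finset.card_univ]
    congr 1
    exact filter_true_of_mem fun T _ => one_smul _ _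
  have hP : ∑ x ∈ univ.filter (fun x : H => x ≠ 1 ∧ x ^ p ^ k = 1), φ x = -((2 * u : ℕ) : ℤ) := by
    rw [Finset.sum_congr rfl (fun x hx => show φ x = -1 by
      obtain ⟨-, hx1, hxq⟩ := mem_filter.1 hx
      simp [φ, h.fixNum_of_pow hx1 hxq]), Finset.sum_const, h.card_pow_filter]
    simp
  have hzero : ∑ x ∈ R, φ x = 0 := by
    have hsplit := Finset.sum_filter_add_sum_filter_not (univ : Finset H) (fun x => x ^ p ^ k = 1) φ
    rw [htot, ← Finset.add_sum_erase _ _ (show (1 : H) ∈ univ.filter (fun x : H => x ^ p ^ k = 1) by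
      simp)] at hsplit
    have e : (univ.filter (fun x : H => x ^ p ^ k = 1)).erase 1 =
        univ.filter (fun x : H => x ≠ 1 ∧ x ^ p ^ k = 1) := by ext x; simp
    rw [e, hP] at hsplit
    have hφ1 : φ 1 = ((p ^ k : ℕ) + 1 : ℤ) * ((p ^ k : ℕ) - 1 : ℤ) := by
      simp only [φ, h1]; push_cast; ring
    have hu : ((2 * u + 1 : ℕ) : ℤ) = (((p ^ k) ^ 2 : ℕ) : ℤ) := by rw [h.hu]
    push_cast at hu hφ1 hsplit
    rw [hR]
    nlinarith
  have := (Finset.sum_eq_zero_iff_of_nonneg hnonneg).1 hzero g (mem_filter.2 ⟨mem_univ _, hg⟩)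
  rcases mul_eq_zero.1 this with e | e
  · left; exact_mod_cast e
  · right; omega

theorem fixNum_le_two {g : H} (hg : g ≠ 1) : fixNum p g ≤ 2 := by
  by_cases hq : g ^ p ^ k = 1
  · rw [h.fixNum_of_pow hg hq]; omega
  · rcases h.fixNum_cases hq with e | e <;> omega

theorem eq_one_of_three (g : H) (a b c : Sylow p H) (hab : a ≠ b) (hbc : b ≠ c) (hac : a ≠ c)
    (ha : g • a = a) (hb : g • b = b) (hc : g • c = c) : g = 1 := by
  by_contra hg
  have h3 : ({a, b, c} : Finset (Sylow p H)) ⊆ univ.filter fun T => g • T = T := by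
    intro T hT
    simp only [Finset.mem_insert, mem_singleton] at hT
    rcases hT with rfl | rfl | rfl <;> simp [*]
  have h4 := Finset.card_le_card h3
  rw [card_insert_of_notMem (by simp [hab, hac]), card_pair hbc] at h4
  have := h.fixNum_le_two hg
  rw [fixNum] at this
  omega

theorem isZassenhausGroup : Cfsg.IsZassenhausGroup H (Sylow p H) := by
  have hn := h.card_points
  rw [Nat.card_eq_fintype_card] at hn
  have hq5 := h.q_ge
  obtain ⟨a, b, c, hab, hac, hbc⟩ := Fintype.two_lt_card_iff.1 (show 2 < Fintype.card (Sylow p H) by omega)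
  refine ⟨⟨fun {g j} e => ?_⟩, h.two_transitive, h.eq_one_of_three, ?_, fun N hN hT => ?_⟩
  · refine inv_mul_eq_one.1 (h.eq_one_of_three (j⁻¹ * g) a b c hab hbc hac ?_ ?_ ?_) |>.symm <;>
      rw [mul_smul, e, inv_smul_smul]
  · have hd := h.card_two_stab hab
    haveI : Nontrivial ↥(stabilizer H a ⊓ stabilizer H b) := Finite.one_lt_card_iff_nontrivial.1 (by omega)
    obtain ⟨⟨g, hga, hgb⟩, hg⟩ := exists_ne (1 : ↥(stabilizer H a ⊓ stabilizer H b))
    exact ⟨g, fun e => hg (Subtype.ext e), a, b, hab, hga, hgb⟩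
  by_contra hcon
  push Not at hcon
  have hreg : Function.Bijective (fun g : N => (g : H) • a) := by
    refine ⟨fun g j e => ?_, fun T => (hT.exists_smul_eq a T).imp fun g hg => hg⟩
    have h1 : g⁻¹ * j ∈ stabilizer N a := by
      rw [mem_stabilizer_iff, mul_smul, inv_smul_eq_iff]
      exact e.symm
    exact inv_mul_eq_one.1 (mem_bot.1 ((hcon a).le h1))
  have hcardN : Nat.card N = p ^ k + 1 := by rw [Nat.card_eq_of_bijective _ hreg, h.card_points]
  obtain ⟨⟨y, hyN⟩, hy⟩ : ∃ y : N, y ≠ 1 := haveI : Nontrivial N := Finite.one_lt_card_iff_nontrivial.1 (by omega); exists_ne _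
  have hy1 : y ≠ 1 := fun e => hy (Subtype.ext e)
  have hyq : y ^ p ^ k ≠ 1 := fun e => by
    have h1 := Nat.eq_one_of_dvd_coprimes (show (p ^ k).Coprime (p ^ k + 1) by
      simp [Nat.coprime_self_add_right]) (orderOf_dvd_of_pow_eq_one e)
      (hcardN ▸ N.orderOf_dvd_natCard hyN)
    exact hy1 (orderOf_eq_one_iff.1 h1)
  have hidx : (centralizer ({y} : Set H)).index = p ^ k := by
    rw [← PrimeParts.ncard_carrier]
    refine le_antisymm ?_ ?_
    · refine le_trans (Set.ncard_le_ncard (t := (N : Set H) \ {1}) ?_) ?_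
      · intro z hz
        obtain ⟨g, rfl⟩ := isConj_iff.1
          (ConjClasses.mk_eq_mk_iff_isConj.1 (ConjClasses.mem_carrier_iff_mk_eq.1 hz)).symm
        exact ⟨hN.conj_mem _ hyN g, fun e => hy1 (by simpa using e)⟩
      · rw [Set.ncard_sdiff_singleton_of_mem (one_mem N), ← Nat.card_coe_set_eq, SetLike.coe_sort_coe,
          hcardN, Nat.add_sub_cancel]
    · rw [← h.card_sylow a, ← Nat.card_coe_set_eq]
      refine Nat.card_le_card_of_injective (fun x : (a : Subgroup H) =>
        (⟨(x : H) * y * (x : H)⁻¹, ConjClasses.mem_carrier_iff_mk_eq.2 (ConjClasses.mk_eq_mk_iff_isConj.2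
          (isConj_iff.2 ⟨(x : H), rfl⟩).symm)⟩ : (ConjClasses.mk y).carrier)) fun x x' e => ?_
      have e' : (x : H) * y * (x : H)⁻¹ = x' * y * (x' : H)⁻¹ := congrArg Subtype.val e
      by_contra hne
      have hw : (x' : H)⁻¹ * x ≠ 1 := fun e => hne (Subtype.ext (inv_mul_eq_one.1 e).symm)
      have hwm : (x' : H)⁻¹ * x ∈ (a : Subgroup H) := mul_mem (inv_mem x'.2) x.2
      have hc : y ∈ centralizer ({(x' : H)⁻¹ * x} : Set H) := mem_centralizer_singleton_iff.2 (by
        calc y * ((x' : H)⁻¹ * x) = (x' : H)⁻¹ * (x' * y * (x' : H)⁻¹) * x := by group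
          _ = (x' : H)⁻¹ * x * y := by rw [← e']; group)
      rw [h.centralizer_eq_of_central a hwm hw fun z hz => h.sylow_comm a z hz _ hwm] at hc
      exact hyq (h.pow_of_mem a hc)
  have hC := card_mul_index (centralizer ({y} : Set H))
  rw [hidx, h.card, mul_comm (p ^ k) u] at hC
  have hCu := Nat.eq_of_mul_eq_mul_right (Nat.pow_pos h.hp.pos) hC
  have hs3 := h.hs3
  rcases h.cent_cases y hy1 hyq with e | e
  · have hd0 : 2 ≤ 2 * d := by
      rcases Nat.eq_zero_or_pos d with hd | hd
      · have := h.hor; omega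
      · omega
    have h5 := h.hud
    rw [← hCu, e] at h5
    nlinarith
  · rw [hCu, h.hud] at e
    have h6 := Nat.le_of_dvd (by have := h.hor; omega) e
    have : 0 < 2 * d := by have := h.hor; omega
    nlinarith

/-- For `q ≡ 1 (mod 4)` an element exchanging two points is an involution. -/
theorem swap_sq (hq1 : 2 * d + 1 = p ^ k) {a b : Sylow p H} (hab : a ≠ b) {v : H} (hva : v • a = b)
    (hvb : v • b = a) : v * v = 1 := by
  have hvv : ∀ T, T = a ∨ T = b → (v * v) • T = T := by
    rintro T (rfl | rfl) <;> simp [mul_smul, hva, hvb]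
  have hv1 : v ≠ 1 := fun e => hab (by simpa [e] using hva)
  by_cases h0 : fixNum p v = 0
  · exfalso
    have hvq : v ^ p ^ k ≠ 1 := fun e => by rw [h.fixNum_of_pow hv1 e] at h0; omega
    set Z0 := univ.filter (fun x : H => fixNum p x = 0) with hZ0
    set F2 := univ.filter (fun x : H => x ^ p ^ k ≠ 1 ∧ fixNum p x ≠ 0) with hF2
    have hZq : ∀ x ∈ Z0, x ≠ 1 ∧ x ^ p ^ k ≠ 1 := fun x hx => by
      have h0' := (mem_filter.1 hx).2
      have hx1 : x ≠ 1 := fun e => by
        rw [e] at h0'
        exact Nat.not_succ_le_zero 0 (h0' ▸ Finset.card_pos.2 ⟨a, by simp⟩)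
      exact ⟨hx1, fun e => by rw [h.fixNum_of_pow hx1 e] at h0'; omega⟩
    have hconj : ∀ x g : H, fixNum p (g * x * g⁻¹) = fixNum p x := fun x g =>
      (card_bij' (fun T _ => g • T) (fun T _ => g⁻¹ • T)
        (fun T hT => by simp only [mem_filter, mem_univ, true_and] at hT ⊢; simp [mul_smul, hT])
        (fun T hT => by
          simp only [mem_filter, mem_univ, true_and] at hT ⊢
          have := congrArg (g⁻¹ • ·) hT
          simpa [mul_smul] using this)
        (fun T _ => inv_smul_smul g T) (fun T _ => smul_inv_smul g T)).symm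
    have hidx : ∀ x : H, Nat.card (centralizer ({x} : Set H)) * (centralizer ({x} : Set H)).index =
        p ^ k * u := fun x => by rw [card_mul_index, h.card]
    set A := Z0.filter (fun x => Nat.card (centralizer ({x} : Set H)) = s) with hA
    set B := Z0.filter (fun x => ¬ Nat.card (centralizer ({x} : Set H)) = s) with hB
    have hcconj : ∀ x g : H, Nat.card (centralizer ({g * x * g⁻¹} : Set H)) =
        Nat.card (centralizer ({x} : Set H)) := fun x g => by
      rw [show centralizer ({g * x * g⁻¹} : Set H) =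
        (centralizer ({x} : Set H)).map (MulAut.conj g).toMonoidHom from by
          ext w
          rw [Subgroup.mem_map_equiv, MulAut.conj_symm_apply]
          exact ClassSize.CoprimeTop.cent_conj_mem, card_map_of_injective (MulAut.conj g).injective]
    obtain ⟨α, hα⟩ : 2 * d * p ^ k ∣ A.card := by
      refine dvd_card_of_class_dvd (fun x hx g => ?_) fun x hx => ?_
      · simp only [hA, hZ0, mem_filter, mem_univ, true_and] at hx ⊢
        rwa [hconj, hcconj]
      · have h1 := hidx x
        rw [(mem_filter.1 hx).2, h.hud] at h1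
        refine dvd_of_eq (Nat.eq_of_mul_eq_mul_left (show 0 < s by have := h.hs3; omega) ?_).symm
        rw [h1]; ring
    obtain ⟨β, hβ⟩ : s ∣ B.card := by
      refine dvd_card_of_class_dvd (fun x hx g => ?_) fun x hx => ?_
      · simp only [hB, hZ0, mem_filter, mem_univ, true_and] at hx ⊢
        rwa [hconj, hcconj]
      · obtain ⟨hx0, hxs⟩ := mem_filter.1 hx
        obtain ⟨c, hc⟩ := (h.cent_cases x (hZq x hx0).1 (hZq x hx0).2).resolve_left hxs
        have h1 := hidx x
        rw [h.hud, hc] at h1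
        refine Dvd.intro (p ^ k * c) ?_
        exact (Nat.eq_of_mul_eq_mul_left (Nat.card_pos) (h1.trans (by ring))).symm
    -- the number of elements without fixed points
    have hZcard : Z0.card = p ^ k * (d * d) := by
      have hP := h.card_pow_filter
      have hsum := h.sum_fix
      have hsplit : ∀ x : H, fixNum p x = (if x = 1 then p ^ k + 1 else 0) +
          (if x ≠ 1 ∧ x ^ p ^ k = 1 then 1 else 0) + (if x ^ p ^ k ≠ 1 ∧ fixNum p x ≠ 0 then 2 else 0) := by
        intro x
        rcases eq_or_ne x 1 with rfl | hx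
        · simp [fixNum, ← h.card_points, Nat.card_eq_fintype_card]
        · by_cases hq : x ^ p ^ k = 1
          · simp [hx, hq, h.fixNum_of_pow hx hq]
          · rcases h.fixNum_cases hq with e | e <;> simp [hx, hq, e]
      rw [Finset.sum_congr rfl fun x _ => hsplit x] at hsum
      simp only [Finset.sum_add_distrib, Finset.sum_ite, Finset.sum_const, smul_eq_mul, mul_zero,
        add_zero, Finset.filter_eq', mem_univ, if_true, card_singleton, one_mul, mul_one] at hsum
      rw [hP, ← hF2] at hsum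
      have htot : 1 + 2 * u + F2.card + Z0.card = Nat.card H := by
        rw [← hP, Nat.card_eq_fintype_card, ← Finset.card_univ (α := H),
          ← card_singleton (1 : H), ← card_union_of_disjoint, ← card_union_of_disjoint,
          ← card_union_of_disjoint]
        · congr 1
          refine eq_univ_of_forall fun x => ?_
          simp only [mem_union, mem_singleton, hF2, hZ0, mem_filter, mem_univ, true_and]
          by_cases hx : x = 1
          · exact Or.inl (Or.inl (Or.inl hx))
          by_cases hq : x ^ p ^ k = 1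
          · exact Or.inl (Or.inl (Or.inr ⟨hx, hq⟩))
          by_cases hf : fixNum p x = 0
          · exact Or.inr hf
          · exact Or.inl (Or.inr ⟨hq, hf⟩)
        · refine disjoint_left.2 fun x hx hx' => ?_
          have := hZq x hx'
          simp only [mem_union, mem_singleton, hF2, mem_filter] at hx
          rcases hx with (hx | hx) | hx
          · exact this.1 hx
          · exact this.2 hx.2.2
          · exact hx.2.2 (mem_filter.1 hx').2
        · refine disjoint_left.2 fun x hx hx' => ?_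
          simp only [mem_union, mem_singleton, hF2, mem_filter] at hx hx'
          rcases hx with hx | hx
          · exact hx'.2.1 (by rw [hx, one_pow])
          · exact hx'.2.1 hx.2.2
        · exact disjoint_left.2 fun x hx hx' => (mem_filter.1 hx').2.1 (mem_singleton.1 hx)
      rw [h.card, h.hud] at hsum htot
      have hsd := h.hsd
      rw [← hq1] at hsum htot hsd ⊢
      have hs1 : s = d + 1 := by omega
      rw [hs1] at hsum htot
      nlinarith
    have hsplitZ : A.card + B.card = Z0.card := Finset.card_filter_add_card_filter_not _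
    have hs1 : s = d + 1 := by have := h.hsd; omega
    -- `A` is everything
    have hA_le : p ^ k * (d * d) ≤ A.card := by
      have e : (A.card : ℤ) + B.card = (p ^ k * (d * d) : ℕ) := by
        rw [← hZcard, ← hsplitZ]; push_cast; ring
      rw [hα, hβ] at e
      rw [hα]
      push_cast at e
      have hq' : ((p ^ k : ℕ) : ℤ) = 2 * d + 1 := by exact_mod_cast hq1.symm
      push_cast at hq'
      rw [hq', hs1] at e
      push_cast at e
      obtain ⟨m, hm⟩ : ((d : ℤ) + 1) ∣ 2 * (α : ℤ) + 1 := by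
        refine ⟨(2 * (d : ℤ) ^ 2 - d + 1) - β - (4 * d - 2) * α, ?_⟩
        linear_combination e
      have hm1 : 1 ≤ m := by
        by_contra hlt
        have h9 : ((d : ℤ) + 1) * m ≤ 0 := mul_nonpos_of_nonneg_of_nonpos (by positivity) (by omega)
        omega
      have h8 : (d : ℤ) ≤ 2 * α := by nlinarith
      have h10 : d ≤ 2 * α := by exact_mod_cast h8
      calc p ^ k * (d * d) ≤ p ^ k * (d * (2 * α)) :=
            Nat.mul_le_mul_left _ (Nat.mul_le_mul_left _ h10)
        _ = 2 * d * p ^ k * α := by ring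
    have hvB : v ∉ B := by
      have : B.card = 0 := by omega
      rw [card_eq_zero.1 this]; simp
    have hvc : Nat.card (centralizer ({v} : Set H)) = s := by
      by_contra hne
      exact hvB (mem_filter.2 ⟨mem_filter.2 ⟨mem_univ _, h0⟩, hne⟩)
    -- an element of odd order cannot exchange two points
    obtain ⟨j, hj⟩ : Odd (orderOf v) := Odd.of_dvd_nat h.hs
      (hvc ▸ orderOf_dvd_natCard _ (mem_centralizer_singleton_iff.2 rfl))
    have hfix : ∀ i : ℕ, (v * v) ^ i • a = a := fun i =>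
      (stabilizer H a).pow_mem (mem_stabilizer_iff.2 (hvv a (Or.inl rfl))) i
    refine hab ?_
    rw [← hva]
    nth_rw 1 [← hfix (j + 1)]
    rw [← sq, ← pow_mul, show 2 * (j + 1) = orderOf v + 1 by omega, pow_succ', pow_orderOf_eq_one,
      mul_one]
  · obtain ⟨c, hc⟩ := card_pos.1 (Nat.pos_of_ne_zero h0)
    simp only [mem_filter, mem_univ, true_and] at hc
    exact h.eq_one_of_three (v * v) a b c hab (fun e => hab (by rw [← hvb, e, hc]))
      (fun e => hab (by rw [← hva, e, hc])) (hvv a (Or.inl rfl)) (hvv b (Or.inr rfl))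
      (by rw [mul_smul, hc, hc])

end Count

/-- **Odd `q`**: the group is `PSL(2, q)`. -/
theorem exists_equiv : ∃ (K : Type) (_ : Field K) (_ : Fintype K), Fintype.card K = p ^ k ∧
    Nonempty (H ≃* PSL(2, K)) := by
  classical
  haveI := Fintype.ofFinite H
  haveI := Fintype.ofFinite (Sylow p H)
  have hZ := h.isZassenhausGroup
  have hn := h.card_points
  rw [Nat.card_eq_fintype_card] at hn
  have hq5 := h.q_ge
  obtain ⟨a, b, hab⟩ := Fintype.exists_pair_of_one_lt_card (show 1 < Fintype.card (Sylow p H) by omega)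
  have hd := h.card_two_stab hab
  obtain ⟨K, i1, i2, -, hK, e⟩ : ∃ (K : Type) (_ : Field K) (_ : Fintype K), (2 : K) ≠ 0 ∧
      Fintype.card (Sylow p H) = Fintype.card K + 1 ∧ Nonempty (H ≃* PSL(2, K)) := by
    rcases h.hor with hq1 | hq3
    · refine PSL2.Recog.psl_of_even_stab_of hZ hab (by
        obtain ⟨i, hi⟩ := h.hd
        exact ⟨i, by omega⟩) (by omega) fun v hva hvb => ⟨h.swap_sq hq1 hab hva hvb, fun g hg => ?_⟩
      have h1 := h.swap_sq hq1 hab (v := v * g) (by rw [mul_smul, hg.1, hva]) (by rw [mul_smul, hg.2, hvb])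
      rw [inv_eq_of_mul_eq_one_right (h.swap_sq hq1 hab hva hvb)]
      calc v * g * v = (v * g * (v * g)) * g⁻¹ := by group
        _ = g⁻¹ := by rw [h1, one_mul]
    · refine Perm.ZassPSL.psl_of_odd hZ hab (H := (a : Subgroup H)) ?_
        (fun x hx => h.smul_eq_of_mem hx) (by rw [h.card_sylow]; omega) (fun x hx hx1 c hc =>
          h.eq_of_mem hx1 ((h.smul_eq_iff_of_pow hx1 (h.pow_of_mem a hx) c).1 hc) hx)
        (h.sylow_comm a) (show 2 * Nat.card ↥(stabilizer H a ⊓ stabilizer H b) = _ by omega)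
      obtain ⟨i, hi⟩ := h.hd
      show Odd (Nat.card ↥(stabilizer H a ⊓ stabilizer H b))
      rcases Nat.eq_zero_or_pos i with hi0 | hi0
      · omega
      · exact ⟨i - 1, by omega⟩
  exact ⟨K, i1, i2, by omega, e⟩

end QOdd

end Cfsg.Agent.PSLSizes
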